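import Cfsg.Agent.JU.TabJ
import Cfsg.Agent.JU.TabH
import Cfsg.Agent.JU.TabA
import Cfsg.Agent.JU.TabB

/-! Consequences of the coset enumerations. -/

set_option autoImplicit false

namespace Cfsg.Agent.TC

section

variable {Γ : Type*} [Group Γ]

/-- The generating function of five elements. -/
def gen (a b c d e : Γ) : ℕ → Γ
  | 0 => a
  | 1 => b
  | 2 => c
  | 3 => d
  | 4 => e
  | _ => 1

theorem gen_sq {a b c d e : Γ} (ha : a * a = 1) (hb : b * b = 1) (hc : c * c = 1) (hd : d * d = 1)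
    (he : e * e = 1) : ∀ j, gen a b c d e j * gen a b c d e j = 1 := by
  intro j
  match j with
  | 0 => exact ha
  | 1 => exact hb
  | 2 => exact hc
  | 3 => exact hd
  | 4 => exact he
  | _ + 5 => exact mul_one 1

theorem val_rep (g : ℕ → Γ) (w : List ℕ) (n : ℕ) :
    val g (List.replicate n w).flatten = val g w ^ n := by
  induction n with
  | zero => rw [pow_zero]; rfl
  | succ n ih =>
    rw [List.replicate_succ, List.flatten_cons, val_append, ih, pow_succ']

theorem val_one (g : ℕ → Γ) (i : ℕ) : val g [i] = g i := by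
  rw [val_cons, val_nil, mul_one]

/-- The relations `[5,3]`. -/
structure H3 (a b c : Γ) : Prop where
  aa : a * a = 1
  bb : b * b = 1
  cc : c * c = 1
  ab : (a * b) ^ 5 = 1
  bc : (b * c) ^ 3 = 1
  ac : (a * c) ^ 2 = 1

theorem H3.base_val {a b c : Γ} (h : H3 a b c) (d e : Γ) :
    ∀ r ∈ TabH.base, val (gen a b c d e) r = 1 := by
  intro r hr
  have h1 : TabH.base = [(List.replicate 5 [0, 1]).flatten, (List.replicate 3 [1, 2]).flatten,
    (List.replicate 2 [0, 2]).flatten, [0, 0], [1, 1], [2, 2], []] := by decide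
  rw [h1] at hr
  simp only [List.mem_cons, List.not_mem_nil, or_false] at hr
  rcases hr with rfl | rfl | rfl | rfl | rfl | rfl | rfl
  · rw [val_rep, val_cons, val_one]; exact h.ab
  · rw [val_rep, val_cons, val_one]; exact h.bc
  · rw [val_rep, val_cons, val_one]; exact h.ac
  · rw [val_cons, val_one]; exact h.aa
  · rw [val_cons, val_one]; exact h.bb
  · rw [val_cons, val_one]; exact h.cc
  · rfl

theorem closure_gen3 (a b c d e : Γ) :
    Subgroup.closure (gen a b c d e '' {j | j ∈ [0, 1, 2]}) = Subgroup.closure {a, b, c} := by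
  congr 1
  ext x
  constructor
  · rintro ⟨j, hj, rfl⟩
    simp only [List.mem_cons, List.not_mem_nil, or_false, Set.mem_ofPred_eq] at hj
    rcases hj with rfl | rfl | rfl
    · left; rfl
    · right; left; rfl
    · right; right; rfl
  · rintro (rfl | rfl | rfl)
    · exact ⟨0, by simp, rfl⟩
    · exact ⟨1, by simp, rfl⟩
    · exact ⟨2, by simp, rfl⟩

theorem closure_gen4 (a b c d e : Γ) :
    Subgroup.closure (gen a b c d e '' {j | j ∈ [0, 1, 2, 3]}) = Subgroup.closure {a, b, c, d} := by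
  congr 1
  ext x
  constructor
  · rintro ⟨j, hj, rfl⟩
    simp only [List.mem_cons, List.not_mem_nil, or_false, Set.mem_ofPred_eq] at hj
    rcases hj with rfl | rfl | rfl | rfl
    · left; rfl
    · right; left; rfl
    · right; right; left; rfl
    · right; right; right; rfl
  · rintro (rfl | rfl | rfl | rfl)
    · exact ⟨0, by simp, rfl⟩
    · exact ⟨1, by simp, rfl⟩
    · exact ⟨2, by simp, rfl⟩
    · exact ⟨3, by simp, rfl⟩

/-- Words with the same trace have the same value. -/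
theorem H3.val_eq {a b c : Γ} (h : H3 a b c) (d e : Γ) (hd : d * d = 1) (he : e * e = 1)
    {u w : List ℕ} (hu : ∀ j ∈ u, j ∈ [0, 1, 2]) (hw : ∀ j ∈ w, j ∈ [0, 1, 2])
    (huw : tr TabH.FA TabH.EI 0 u = tr TabH.FA TabH.EI 0 w) :
    val (gen a b c d e) u = val (gen a b c d e) w := by
  have hg := gen_sq h.aa h.bb h.cc hd he
  obtain ⟨rep, h0, hf⟩ := TabH.sound (⊥ : Subgroup Γ) _ hg rfl (h.base_val d e)
    (fun x hx => absurd hx List.not_mem_nil)
  have h1 := (tr_sound TabH.chkE_ok hg hf u hu 0 (Nat.zero_le _)).2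
  have h2 := (tr_sound TabH.chkE_ok hg hf w hw 0 (Nat.zero_le _)).2
  unfold Rel at h1 h2
  rw [Subgroup.mem_bot, h0, one_mul] at h1 h2
  rw [mul_inv_eq_one.mp h1, mul_inv_eq_one.mp h2, huw]

theorem H3.card {a b c : Γ} (h : H3 a b c) :
    Finite (Subgroup.closure {a, b, c}) ∧ Nat.card (Subgroup.closure {a, b, c}) ≤ 120 := by
  have hg := gen_sq h.aa h.bb h.cc (mul_one (1 : Γ)) (mul_one (1 : Γ))
  obtain ⟨rep, h0, hf⟩ := TabH.sound (⊥ : Subgroup Γ) _ hg rfl (h.base_val 1 1)
    (fun x hx => absurd hx List.not_mem_nil)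
  have h1 := card_le TabH.chkE_ok hg h0 hf
  rw [closure_gen3] at h1
  refine ⟨h1.1, h1.2.trans ?_⟩
  simp

/-- The central element. -/
theorem H3.zz {a b c : Γ} (h : H3 a b c) : (a * b * c) ^ 5 * (a * b * c) ^ 5 = 1 := by
  have h1 := h.val_eq 1 1 (mul_one 1) (mul_one 1)
    (u := (List.replicate 5 [0, 1, 2]).flatten ++ (List.replicate 5 [0, 1, 2]).flatten) (w := [])
    (by decide) (by decide) (by decide +kernel)
  rw [val_append, val_rep, val_cons, val_cons, val_one, val_nil] at h1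
  simpa only [gen, mul_assoc] using h1

theorem H3.za {a b c : Γ} (h : H3 a b c) : (a * b * c) ^ 5 * a = a * (a * b * c) ^ 5 := by
  have h1 := h.val_eq 1 1 (mul_one 1) (mul_one 1)
    (u := (List.replicate 5 [0, 1, 2]).flatten ++ [0])
    (w := [0] ++ (List.replicate 5 [0, 1, 2]).flatten)
    (by decide) (by decide) (by decide +kernel)
  rw [val_append, val_append, val_rep, val_cons, val_cons, val_one, val_one] at h1
  simpa only [gen, mul_assoc] using h1

theorem H3.zb {a b c : Γ} (h : H3 a b c) : (a * b * c) ^ 5 * b = b * (a * b * c) ^ 5 := by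
  have h1 := h.val_eq 1 1 (mul_one 1) (mul_one 1)
    (u := (List.replicate 5 [0, 1, 2]).flatten ++ [1])
    (w := [1] ++ (List.replicate 5 [0, 1, 2]).flatten)
    (by decide) (by decide) (by decide +kernel)
  rw [val_append, val_append, val_rep, val_cons, val_cons, val_one, val_one] at h1
  simpa only [gen, mul_assoc] using h1

theorem H3.zc {a b c : Γ} (h : H3 a b c) : (a * b * c) ^ 5 * c = c * (a * b * c) ^ 5 := by
  have h1 := h.val_eq 1 1 (mul_one 1) (mul_one 1)
    (u := (List.replicate 5 [0, 1, 2]).flatten ++ [2])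
    (w := [2] ++ (List.replicate 5 [0, 1, 2]).flatten)
    (by decide) (by decide) (by decide +kernel)
  rw [val_append, val_append, val_rep, val_cons, val_cons, val_one] at h1
  simpa only [gen, mul_assoc] using h1

/-- Representatives for the sixty elements. -/
def words60 : List (List ℕ) :=
  [[], [0], [1], [2], [0, 1], [0, 2], [1, 0], [1, 2], [2, 1], [0, 1, 0], [0, 1, 2], [0, 2, 1], [1, 0, 1], [1, 0, 2], [1, 2, 1], [2, 1, 0], [0, 1, 0, 1], [0, 1, 0, 2], [0, 1, 2, 1], [0, 2, 1, 0], [1, 0, 1, 0], [1, 0, 1, 2], [1, 0, 2, 1], [1, 2, 1, 0], [2, 1, 0, 1], [0, 1, 0, 1, 0], [0, 1, 0, 1, 2], [0, 1, 0, 2, 1], [0, 1, 2, 1, 0], [0, 2, 1, 0, 1], [1, 0, 1, 0, 2], [1, 0, 1, 2, 1], [1, 0, 2, 1, 0], [1, 2, 1, 0, 1], [2, 1, 0, 1, 0], [2, 1, 0, 1, 2], [0, 1, 0, 1, 0, 2], [0, 1, 0, 1, 2, 1], [0, 1, 0, 2, 1, 0], [0, 1, 2, 1, 0, 1], [0, 2, 1, 0, 1, 0], [0, 2, 1, 0, 1, 2], [1, 0, 1, 0, 2, 1], [1, 0, 1, 2, 1, 0], [1, 0, 2, 1, 0, 1], [1, 2, 1, 0, 1, 0], [1, 2, 1, 0, 1, 2], [2, 1, 0,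 1, 0, 2], [0, 1, 0, 1, 0, 2, 1], [0, 1, 0, 1, 2, 1, 0], [0, 1, 0, 2, 1, 0, 1], [0, 1, 2, 1, 0, 1, 0], [0, 1, 2, 1, 0, 1, 2], [0, 2, 1, 0, 1, 0, 2], [1, 0, 1, 0, 2, 1, 0], [1, 0, 1, 2, 1, 0, 1], [1, 0, 2, 1, 0, 1, 0], [1, 0, 2, 1, 0, 1, 2], [1, 2, 1, 0, 1, 0, 2], [2, 1, 0, 1, 0, 2, 1]]

theorem words60_ok : allN 60 (fun b => Nat.beq (tr TabA.FA TabA.EI 0 (words60.getD b [])) b &&
    (words60.getD b []).all (fun j => Nat.blt j 3) &&
    (Nat.beq (tr TabA.FA TabA.EI 0 (List.replicate 2 (words60.getD b [])).flatten) 0 ||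
    Nat.beq (tr TabA.FA TabA.EI 0 (List.replicate 3 (words60.getD b [])).flatten) 0 ||
    Nat.beq (tr TabA.FA TabA.EI 0 (List.replicate 5 (words60.getD b [])).flatten) 0)) = true := by
  decide +kernel

/-- Orders of the elements in a quotient of `A5`. -/
theorem H3.hemi {a b c : Γ} (h : H3 a b c) (hz : (a * b * c) ^ 5 = 1) {x : Γ}
    (hx : x ∈ Subgroup.closure {a, b, c}) : x ^ 2 = 1 ∨ x ^ 3 = 1 ∨ x ^ 5 = 1 := by
  have hg := gen_sq h.aa h.bb h.cc (mul_one (1 : Γ)) (mul_one (1 : Γ))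
  have hb : ∀ r ∈ TabA.base, val (gen a b c 1 1) r = 1 := by
    intro r hr
    have h1 : TabA.base = [(List.replicate 5 [0, 1]).flatten, (List.replicate 3 [1, 2]).flatten,
      (List.replicate 2 [0, 2]).flatten, (List.replicate 5 [0, 1, 2]).flatten,
      [0, 0], [1, 1], [2, 2], []] := by decide
    rw [h1] at hr
    simp only [List.mem_cons, List.not_mem_nil, or_false] at hr
    rcases hr with rfl | rfl | rfl | rfl | rfl | rfl | rfl | rfl
    · rw [val_rep, val_cons, val_one]; exact h.ab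
    · rw [val_rep, val_cons, val_one]; exact h.bc
    · rw [val_rep, val_cons, val_one]; exact h.ac
    · rw [val_rep, val_cons, val_cons, val_one, ← mul_assoc]; exact hz
    · rw [val_cons, val_one]; exact h.aa
    · rw [val_cons, val_one]; exact h.bb
    · rw [val_cons, val_one]; exact h.cc
    · rfl
  obtain ⟨rep, h0, hf⟩ := TabA.sound (⊥ : Subgroup Γ) _ hg rfl hb
    (fun x hx => absurd hx List.not_mem_nil)
  rw [← closure_gen3 a b c 1 1] at hx
  obtain ⟨n, hn, hr⟩ := cover TabA.chkE_ok hg hf hx 0 (Nat.zero_le _)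
  have hw := allN_spec words60_ok n (by omega)
  set w := words60.getD n [] with hwdef
  rw [Bool.and_eq_true, Bool.and_eq_true] at hw
  obtain ⟨⟨h1, h2⟩, h3⟩ := hw
  have h4 := Nat.eq_of_beq_eq_true h1
  have hjs : ∀ j ∈ w, j ∈ [0, 1, 2] := by
    intro j hj
    rw [List.all_eq_true] at h2
    have h5 := h2 j hj
    rw [Nat.blt_eq] at h5
    have h6 : j = 0 ∨ j = 1 ∨ j = 2 := by omega
    rcases h6 with rfl | rfl | rfl <;> simp
  have h5 := (tr_sound TabA.chkE_ok hg hf w hjs 0 (Nat.zero_le _)).2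
  rw [h4] at h5
  unfold Rel at h5 hr
  rw [Subgroup.mem_bot, h0, one_mul] at h5 hr
  have hxw : x = val (gen a b c 1 1) w := (mul_inv_eq_one.mp hr).trans (mul_inv_eq_one.mp h5).symm
  have hpow : ∀ k, Nat.beq (tr TabA.FA TabA.EI 0 (List.replicate k w).flatten) 0 = true →
      x ^ k = 1 := by
    intro k hk
    have h6 := Nat.eq_of_beq_eq_true hk
    have hjs' : ∀ j ∈ (List.replicate k w).flatten, j ∈ [0, 1, 2] := by
      intro j hj
      rw [List.mem_flatten] at hj
      obtain ⟨l, hl, hjl⟩ := hj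
      rw [List.eq_of_mem_replicate hl] at hjl
      exact hjs j hjl
    have h7 := (tr_sound TabA.chkE_ok hg hf _ hjs' 0 (Nat.zero_le _)).2
    rw [h6] at h7
    unfold Rel at h7
    rw [Subgroup.mem_bot, h0, one_mul, inv_one, mul_one, val_rep] at h7
    rw [hxw]; exact h7
  rw [Bool.or_eq_true, Bool.or_eq_true] at h3
  rcases h3 with (h3 | h3) | h3
  · left; exact hpow 2 h3
  · right; left; exact hpow 3 h3
  · right; right; exact hpow 5 h3

/-- The relations of the Janko group. -/
structure PJ (a b c d : Γ) : Prop where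
  h3 : H3 a b c
  dd : d * d = 1
  cd : (c * d) ^ 5 = 1
  ad : (a * d) ^ 2 = 1
  bd : (b * d) ^ 2 = 1
  bcd : (b * c * d) ^ 5 = 1
  tt : ((a * b * c) ^ 5 * d) ^ 3 = 1

theorem PJ.card {a b c d : Γ} (h : PJ a b c d) :
    Finite (Subgroup.closure {a, b, c, d}) ∧
    Nat.card (Subgroup.closure {a, b, c, d}) ≤ 175560 := by
  have hg := gen_sq h.h3.aa h.h3.bb h.h3.cc h.dd (mul_one (1 : Γ))
  have hb : ∀ r ∈ TabJ.base, val (gen a b c d 1) r = 1 := by
    intro r hr
    have h1 : TabJ.base = [(List.replicate 5 [0, 1]).flatten, (List.replicate 3 [1, 2]).flatten,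
      (List.replicate 5 [2, 3]).flatten, (List.replicate 2 [0, 2]).flatten,
      (List.replicate 2 [0, 3]).flatten, (List.replicate 2 [1, 3]).flatten,
      (List.replicate 5 [1, 2, 3]).flatten,
      (List.replicate 3 ((List.replicate 5 [0, 1, 2]).flatten ++ [3])).flatten,
      [0, 0], [1, 1], [2, 2], [3, 3], []] := by decide
    rw [h1] at hr
    simp only [List.mem_cons, List.not_mem_nil, or_false] at hr
    rcases hr with rfl | rfl | rfl | rfl | rfl | rfl | rfl | rfl | rfl | rfl | rfl | rfl | rfl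
    · rw [val_rep, val_cons, val_one]; exact h.h3.ab
    · rw [val_rep, val_cons, val_one]; exact h.h3.bc
    · rw [val_rep, val_cons, val_one]; exact h.cd
    · rw [val_rep, val_cons, val_one]; exact h.h3.ac
    · rw [val_rep, val_cons, val_one]; exact h.ad
    · rw [val_rep, val_cons, val_one]; exact h.bd
    · rw [val_rep, val_cons, val_cons, val_one, ← mul_assoc]; exact h.bcd
    · rw [val_rep, val_append, val_rep, val_one, val_cons, val_cons, val_one, ← mul_assoc]
      exact h.tt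
    · rw [val_cons, val_one]; exact h.h3.aa
    · rw [val_cons, val_one]; exact h.h3.bb
    · rw [val_cons, val_one]; exact h.h3.cc
    · rw [val_cons, val_one]; exact h.dd
    · rfl
  obtain ⟨hfin, hc⟩ := h.h3.card
  have hs : ∀ x ∈ [0, 1, 2], gen a b c d 1 x ∈ Subgroup.closure {a, b, c} := by
    intro x hx
    simp only [List.mem_cons, List.not_mem_nil, or_false] at hx
    rcases hx with rfl | rfl | rfl
    · exact Subgroup.subset_closure (by left; rfl)
    · exact Subgroup.subset_closure (by right; left; rfl)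
    · exact Subgroup.subset_closure (by right; right; rfl)
  obtain ⟨rep, h0, hf⟩ := TabJ.sound (Subgroup.closure {a, b, c}) _ hg rfl hb hs
  have h1 := card_le TabJ.chkE_ok hg h0 hf
  rw [closure_gen4] at h1
  refine ⟨h1.1, h1.2.trans ?_⟩
  calc (1462 + 1) * Nat.card (Subgroup.closure {a, b, c}) ≤ (1462 + 1) * 120 :=
        Nat.mul_le_mul_left _ hc
    _ = 175560 := by norm_num

/-- The relation in the group `[3,5,3]`. -/
theorem eleven_cell {t s a b : Γ} (tt : t * t = 1) (ss : s * s = 1) (aa : a * a = 1)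
    (bb : b * b = 1) (ts : (t * s) ^ 3 = 1) (sa : (s * a) ^ 5 = 1) (ab : (a * b) ^ 3 = 1)
    (ta : (t * a) ^ 2 = 1) (tb : (t * b) ^ 2 = 1) (sb : (s * b) ^ 2 = 1)
    (sab : (s * a * b) ^ 5 = 1) : (t * s * a) ^ 5 ∈ Subgroup.closure {s, a, b} := by
  have h3 : H3 a s t := by
    refine ⟨aa, ss, tt, ?_, ?_, ?_⟩
    · have : (a * s) = (s * a)⁻¹ := by
        rw [mul_inv_rev, inv_eq_of_mul_eq_one_left aa, inv_eq_of_mul_eq_one_left ss]
      rw [this, inv_pow, sa, inv_one]
    · have : (s * t) = (t * s)⁻¹ := by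
        rw [mul_inv_rev, inv_eq_of_mul_eq_one_left ss, inv_eq_of_mul_eq_one_left tt]
      rw [this, inv_pow, ts, inv_one]
    · have : (a * t) = (t * a)⁻¹ := by
        rw [mul_inv_rev, inv_eq_of_mul_eq_one_left tt, inv_eq_of_mul_eq_one_left aa]
      rw [this, inv_pow, ta, inv_one]
  have hzz := h3.zz
  have hrev : t * s * a = (a * s * t)⁻¹ := by
    rw [mul_inv_rev, mul_inv_rev, inv_eq_of_mul_eq_one_left aa, inv_eq_of_mul_eq_one_left ss,
      inv_eq_of_mul_eq_one_left tt, mul_assoc]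
  have hz : (t * s * a) ^ 5 = (a * s * t) ^ 5 := by
    rw [hrev, inv_pow]
    exact inv_eq_of_mul_eq_one_left hzz
  have hzz' : (t * s * a) ^ 5 * (t * s * a) ^ 5 = 1 := by rw [hz]; exact hzz
  have hg := gen_sq tt ss aa bb hzz'
  have hb : ∀ r ∈ TabB.base, val (gen t s a b ((t * s * a) ^ 5)) r = 1 := by
    intro r hr
    have h1 : TabB.base = [(List.replicate 3 [0, 1]).flatten, (List.replicate 5 [1, 2]).flatten,
      (List.replicate 3 [2, 3]).flatten, (List.replicate 2 [0, 2]).flatten,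
      (List.replicate 2 [0, 3]).flatten, (List.replicate 2 [1, 3]).flatten,
      (List.replicate 5 [1, 2, 3]).flatten,
      (List.replicate 5 [0, 1, 2]).flatten ++ [4],
      [0, 0], [1, 1], [2, 2], [3, 3], [4, 4], []] := by decide
    rw [h1] at hr
    simp only [List.mem_cons, List.not_mem_nil, or_false] at hr
    rcases hr with rfl | rfl | rfl | rfl | rfl | rfl | rfl | rfl | rfl | rfl | rfl | rfl | rfl | rfl
    · rw [val_rep, val_cons, val_one]; exact ts
    · rw [val_rep, val_cons, val_one]; exact sa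
    · rw [val_rep, val_cons, val_one]; exact ab
    · rw [val_rep, val_cons, val_one]; exact ta
    · rw [val_rep, val_cons, val_one]; exact tb
    · rw [val_rep, val_cons, val_one]; exact sb
    · rw [val_rep, val_cons, val_cons, val_one, ← mul_assoc]; exact sab
    · rw [val_append, val_rep, val_one, val_cons, val_cons, val_one, ← mul_assoc]
      exact hzz'
    · rw [val_cons, val_one]; exact tt
    · rw [val_cons, val_one]; exact ss
    · rw [val_cons, val_one]; exact aa
    · rw [val_cons, val_one]; exact bb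
    · rw [val_cons, val_one]; exact hzz'
    · rfl
  have hs : ∀ x ∈ [1, 2, 3], gen t s a b ((t * s * a) ^ 5) x ∈ Subgroup.closure {s, a, b} := by
    intro x hx
    simp only [List.mem_cons, List.not_mem_nil, or_false] at hx
    rcases hx with rfl | rfl | rfl
    · exact Subgroup.subset_closure (by left; rfl)
    · exact Subgroup.subset_closure (by right; left; rfl)
    · exact Subgroup.subset_closure (by right; right; rfl)
  obtain ⟨rep, h0, hf⟩ := TabB.sound (Subgroup.closure {s, a, b}) _ hg rfl hb hs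
  have h1 := hf 292 (by norm_num)
  obtain ⟨e1, e2, e3⟩ := TabB.target
  rw [e1, e2, e3] at h1
  unfold Rel at h1
  rw [h0, one_mul, inv_one, mul_one] at h1
  exact h1

end

end Cfsg.Agent.TC
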