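import Cfsg.Agent.JU.Fuse
import Cfsg.Agent.JU.A5fact

/-! The orientation of commuting involutions. -/

set_option autoImplicit false

namespace Cfsg.Agent.JC

open Cfsg Subgroup

section

variable {G : Type*} [Group G]

/-- `y` lies in the derived group of the centraliser of the involution `x`. -/
def Arr (x y : G) : Prop := ∃ E' : Emb G, E'.iota zz = x ∧ ∃ σ : A5, E'.iota (1, σ) = y

theorem Arr.of_emb (E : Emb G) {y : G} (h : Arr (E.iota zz) y) : ∃ σ : A5, E.iota (1, σ) = y := by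
  obtain ⟨E', hE', σ, rfl⟩ := h
  have key : ∀ α : A5, ∃ p : CA, E.iota p = E'.iota (1, α) := by
    intro α
    apply E.cent
    rw [← hE', ← map_mul, ← map_mul, zz_center]
  obtain ⟨α, β, hαβ⟩ := a5_sq σ
  obtain ⟨p, hp⟩ := key α
  obtain ⟨q, hq⟩ := key β
  have h1 : E'.iota (1, σ) = E.iota (p * p * (q * q)) := by
    rw [map_mul, map_mul, map_mul, hp, hq, ← map_mul, ← map_mul, ← map_mul]
    congr 1
    rw [hαβ]
    rfl
  have h2 : (p * p * (q * q)).1 = 1 := by
    have hm : ∀ x y : M2, x * x * (y * y) = 1 := by decide +kernel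
    exact hm _ _
  refine ⟨(p * p * (q * q)).2, ?_⟩
  rw [h1]
  congr 1
  rw [← h2]

theorem Arr.conj {x y : G} (h : Arr x y) (g : G) : Arr (g * x * g⁻¹) (g * y * g⁻¹) := by
  obtain ⟨E', rfl, σ, rfl⟩ := h
  exact ⟨E'.conj g, rfl, σ, rfl⟩

theorem arr_conj_iff (g : G) {x y : G} : Arr (g * x * g⁻¹) (g * y * g⁻¹) ↔ Arr x y := by
  constructor
  · intro h
    have h1 := h.conj g⁻¹
    have e1 : g⁻¹ * (g * x * g⁻¹) * g⁻¹⁻¹ = x := by group
    have e2 : g⁻¹ * (g * y * g⁻¹) * g⁻¹⁻¹ = y := by group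
    rwa [e1, e2] at h1
  · intro h; exact h.conj g

theorem arr_iff (E : Emb G) (w : CA) : Arr (E.iota zz) (E.iota w) ↔ w.1 = 1 := by
  constructor
  · intro h
    obtain ⟨σ, hσ⟩ := h.of_emb
    rw [← E.inj hσ]
  · intro h
    refine ⟨E, rfl, w.2, ?_⟩
    congr 1
    rw [← h]

/-- The relation on `E8`. -/
def rr (E : Emb G) (x y : E8) : Prop := Arr (E.iota (kap x)) (E.iota (kap y))

theorem rr_z (E : Emb G) (y : E8) : rr E zE y ↔ y.1 = 1 := by
  unfold rr
  rw [kap_zE, arr_iff]
  rfl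

theorem rr_orbit (E : Emb G) {y : E8} (h1 : y ≠ 1) (h2 : y ≠ zE) :
    rr E y zE ↔ rr E (y.1, e1, 1) zE := by
  obtain ⟨c, hc1, hc2⟩ := orbit_elt E h1 h2
  unfold rr
  rw [kap_zE, ← hc2]
  have h3 : E.iota zz = c * E.iota zz * c⁻¹ := by rw [hc1]; group
  conv_lhs => rw [h3]
  exact arr_conj_iff c

variable [Finite G]

/-- Automorphisms of the relation moving `t` to any involution of `S`. -/
theorem exists_perm [IsSimpleGroup G] (E : Emb G) (h16 : ¬ 16 ∣ Nat.card G) {x : E8} (hx : x ≠ 1) :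
    ∃ φ : Equiv.Perm E8, φ zE = x ∧ φ 1 = 1 ∧ ∀ a b, rr E (φ a) (φ b) ↔ rr E a b := by
  obtain ⟨g, hg⟩ := isConj_iff.mp (conj_S E h16 x hx)
  obtain ⟨n, hn, hn2⟩ := burnside E h16 (x := E.iota zz) (g := g⁻¹) E.zz_mem_S
    (by rw [inv_inv, hg]; exact ⟨x, rfl⟩)
  rw [inv_inv, hg] at hn2
  -- the action of `n⁻¹`
  have hconj : ∀ y : E8, ∃ y' : E8, E.iota (kap y') = n⁻¹ * E.iota (kap y) * n := by
    intro y
    have h1 : n⁻¹ * E.iota (kap y) * n⁻¹⁻¹ ∈ E.S :=
      (Subgroup.mem_normalizer_iff.mp (inv_mem hn) _).mp ⟨y, rfl⟩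
    rw [inv_inv] at h1
    exact h1
  choose f hf using hconj
  have hinj : Function.Injective f := by
    intro a b hab
    have h1 := hf a
    rw [hab, hf b] at h1
    have h2 : E.iota (kap b) = E.iota (kap a) := by
      have h3 : n * (n⁻¹ * E.iota (kap b) * n) * n⁻¹ = n * (n⁻¹ * E.iota (kap a) * n) * n⁻¹ := by
        rw [h1]
      calc E.iota (kap b) = n * (n⁻¹ * E.iota (kap b) * n) * n⁻¹ := by group
        _ = n * (n⁻¹ * E.iota (kap a) * n) * n⁻¹ := h3
        _ = E.iota (kap a) := by group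
    exact (kap_inj (E.inj h2)).symm
  refine ⟨Equiv.ofBijective f (Finite.injective_iff_bijective.mp hinj), ?_, ?_, ?_⟩
  · apply kap_inj
    apply E.inj
    change E.iota (kap (f zE)) = _
    rw [hf, kap_zE, ← hn2]
  · apply kap_inj
    apply E.inj
    change E.iota (kap (f 1)) = _
    rw [hf, map_one, map_one]
    group
  · intro a b
    change Arr (E.iota (kap (f a))) (E.iota (kap (f b))) ↔ _
    rw [hf, hf]
    have h1 := arr_conj_iff n⁻¹ (x := E.iota (kap a)) (y := E.iota (kap b))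
    rwa [inv_inv] at h1

/-- An abstract counting lemma. -/
theorem count_aux (r : E8 → E8 → Prop) (hz : ∀ y, r zE y ↔ y.1 = 1)
    (ho : ∀ y, y ≠ 1 → y ≠ zE → (r y zE ↔ r (y.1, e1, 1) zE))
    (hp : ∀ x, x ≠ 1 → ∃ φ : Equiv.Perm E8, φ zE = x ∧ φ 1 = 1 ∧ ∀ a b, r (φ a) (φ b) ↔ r a b) :
    ¬ r (1, e1, 1) zE ∧ r (e1, e1, 1) zE := by
  classical
  let P : Finset (E8 × E8) := Finset.univ.filter
    (fun p => p.1 ≠ 1 ∧ p.2 ≠ 1 ∧ p.1 ≠ p.2 ∧ r p.1 p.2)
  let outs : E8 → Finset E8 := fun x => Finset.univ.filter (fun y => y ≠ 1 ∧ x ≠ y ∧ r x y)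
  let ins : E8 → Finset E8 := fun y => Finset.univ.filter (fun x => x ≠ 1 ∧ x ≠ y ∧ r x y)
  have hzne : zE ≠ 1 := by decide +kernel
  -- out-degrees
  have hout : ∀ x, x ≠ 1 → (outs x).card = 3 := by
    intro x hx
    obtain ⟨φ, h1, h2, h3⟩ := hp x hx
    have h4 : outs x = (outs zE).map φ.toEmbedding := by
      ext y
      simp only [outs, Finset.mem_filter, Finset.mem_univ, true_and, Finset.mem_map_equiv]
      have h5 := h3 zE (φ.symm y)
      rw [h1, Equiv.apply_symm_apply] at h5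
      rw [h5]
      have h6 : y ≠ 1 ↔ φ.symm y ≠ 1 := by
        rw [not_iff_not, Equiv.symm_apply_eq, h2]
      have h7 : x ≠ y ↔ zE ≠ φ.symm y := by
        rw [not_iff_not, ← h1, Equiv.eq_symm_apply]
      rw [h6, h7]
    rw [h4, Finset.card_map]
    have h8 : outs zE = Finset.univ.filter (fun y : E8 => y ≠ 1 ∧ zE ≠ y ∧ y.1 = 1) := by
      ext y
      simp only [outs, Finset.mem_filter, Finset.mem_univ, true_and, hz]
    rw [h8]
    decide +kernel
  have hin : ∀ x, x ≠ 1 → (ins x).card = (ins zE).card := by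
    intro x hx
    obtain ⟨φ, h1, h2, h3⟩ := hp x hx
    have h4 : ins x = (ins zE).map φ.toEmbedding := by
      ext y
      simp only [ins, Finset.mem_filter, Finset.mem_univ, true_and, Finset.mem_map_equiv]
      have h5 := h3 (φ.symm y) zE
      rw [h1, Equiv.apply_symm_apply] at h5
      rw [h5]
      have h6 : y ≠ 1 ↔ φ.symm y ≠ 1 := by
        rw [not_iff_not, Equiv.symm_apply_eq, h2]
      have h7 : y ≠ x ↔ φ.symm y ≠ zE := by
        rw [not_iff_not, ← h1, Equiv.symm_apply_eq]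
      rw [h6, h7]
    rw [h4, Finset.card_map]
  have h7 : (Finset.univ.filter (fun x : E8 => x ≠ 1)).card = 7 := by decide +kernel
  have hP1 : P.card = 21 := by
    have h8 : P.card = ∑ x ∈ Finset.univ.filter (fun x : E8 => x ≠ 1), (outs x).card := by
      rw [← Finset.card_sigma]
      refine Finset.card_bij (fun p _ => ⟨p.1, p.2⟩) ?_ ?_ ?_
      · rintro ⟨x, y⟩ h
        simp only [P, Finset.mem_filter, Finset.mem_univ, true_and] at h
        simp only [outs, Finset.mem_sigma, Finset.mem_filter, Finset.mem_univ, true_and]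
        exact ⟨h.1, h.2.1, h.2.2.1, h.2.2.2⟩
      · rintro ⟨x, y⟩ _ ⟨x', y'⟩ _ h
        simp only [Sigma.mk.injEq, heq_eq_eq] at h
        rw [h.1, h.2]
      · rintro ⟨x, y⟩ h
        simp only [outs, Finset.mem_sigma, Finset.mem_filter, Finset.mem_univ, true_and] at h
        refine ⟨(x, y), ?_, rfl⟩
        simp only [P, Finset.mem_filter, Finset.mem_univ, true_and]
        exact ⟨h.1, h.2.1, h.2.2.1, h.2.2.2⟩
    rw [h8, Finset.sum_congr rfl (fun x hx => hout x (Finset.mem_filter.mp hx).2),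
      Finset.sum_const, h7, smul_eq_mul]
  have hP2 : P.card = 7 * (ins zE).card := by
    have h8 : P.card = ∑ x ∈ Finset.univ.filter (fun x : E8 => x ≠ 1), (ins x).card := by
      rw [← Finset.card_sigma]
      refine Finset.card_bij (fun p _ => ⟨p.2, p.1⟩) ?_ ?_ ?_
      · rintro ⟨x, y⟩ h
        simp only [P, Finset.mem_filter, Finset.mem_univ, true_and] at h
        simp only [ins, Finset.mem_sigma, Finset.mem_filter, Finset.mem_univ, true_and]
        exact ⟨h.2.1, h.1, h.2.2.1, h.2.2.2⟩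
      · rintro ⟨x, y⟩ _ ⟨x', y'⟩ _ h
        simp only [Sigma.mk.injEq, heq_eq_eq] at h
        rw [h.1, h.2]
      · rintro ⟨y, x⟩ h
        simp only [ins, Finset.mem_sigma, Finset.mem_filter, Finset.mem_univ, true_and] at h
        refine ⟨(x, y), ?_, rfl⟩
        simp only [P, Finset.mem_filter, Finset.mem_univ, true_and]
        exact ⟨h.2.1, h.1, h.2.2.1, h.2.2.2⟩
    rw [h8, Finset.sum_congr rfl (fun x hx => hin x (Finset.mem_filter.mp hx).2),
      Finset.sum_const, h7, smul_eq_mul]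
  have hin3 : (ins zE).card = 3 := by omega
  -- the in-neighbours of `zE`
  have hins : ∀ y, y ∈ ins zE ↔ y ≠ 1 ∧ y ≠ zE ∧ r (y.1, e1, 1) zE := by
    intro y
    simp only [ins, Finset.mem_filter, Finset.mem_univ, true_and]
    constructor
    · rintro ⟨h1, h2, h3⟩
      exact ⟨h1, h2, (ho y h1 h2).mp h3⟩
    · rintro ⟨h1, h2, h3⟩
      exact ⟨h1, h2, (ho y h1 h2).mpr h3⟩
  by_cases u1 : r (1, e1, 1) zE
  · exfalso
    by_cases u2 : r (e1, e1, 1) zE
    · have h8 : ins zE = Finset.univ.filter (fun y : E8 => y ≠ 1 ∧ y ≠ zE) := by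
        ext y
        rw [hins]
        simp only [Finset.mem_filter, Finset.mem_univ, true_and]
        constructor
        · rintro ⟨h1, h2, -⟩; exact ⟨h1, h2⟩
        · rintro ⟨h1, h2⟩
          refine ⟨h1, h2, ?_⟩
          rcases fst_cases y.1 with h | h
          · rw [h]; exact u1
          · rw [h]; exact u2
      rw [h8] at hin3
      have h9 : (Finset.univ.filter (fun y : E8 => y ≠ 1 ∧ y ≠ zE)).card = 6 := by decide +kernel
      omega
    · -- symmetric relation
      have hs1 : ∀ y, y ≠ 1 → y ≠ zE → (r y zE ↔ r zE y) := by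
        intro y h1 h2
        rw [ho y h1 h2, hz]
        rcases fst_cases y.1 with h | h
        · rw [h]; exact ⟨fun _ => rfl, fun _ => u1⟩
        · rw [h]
          constructor
          · intro h3; exact absurd h3 u2
          · intro h3; exact absurd h3 (by decide)
      have hs2 : ∀ x y, x ≠ 1 → y ≠ 1 → x ≠ y → r x y → r y x := by
        intro x y hx hy hxy h
        obtain ⟨φ, h1, h2, h3⟩ := hp x hx
        have h4 := (h3 zE (φ.symm y)).mp (by rw [h1, Equiv.apply_symm_apply]; exact h)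
        have h5 : φ.symm y ≠ 1 := by
          intro h6
          rw [Equiv.symm_apply_eq, h2] at h6
          exact hy h6
        have h6 : φ.symm y ≠ zE := by
          intro h6
          rw [Equiv.symm_apply_eq, h1] at h6
          exact hxy h6.symm
        have h7 := (hs1 _ h5 h6).mpr h4
        have h8 := (h3 (φ.symm y) zE).mpr h7
        rwa [h1, Equiv.apply_symm_apply] at h8
      have h10 : ((P.card : ℕ) : ZMod 2) = 0 := by
        have h11 : ∑ p ∈ P, (1 : ZMod 2) = 0 := by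
          refine Finset.sum_involution (fun p _ => (p.2, p.1)) ?_ ?_ ?_ ?_
          · intro p _; decide
          · rintro ⟨x, y⟩ hp' _ h12
            simp only [P, Finset.mem_filter, Finset.mem_univ, true_and] at hp'
            simp only [Prod.mk.injEq] at h12
            exact hp'.2.2.1 h12.2
          · rintro ⟨x, y⟩ hp'
            simp only [P, Finset.mem_filter, Finset.mem_univ, true_and] at hp' ⊢
            exact ⟨hp'.2.1, hp'.1, hp'.2.2.1.symm, hs2 _ _ hp'.1 hp'.2.1 hp'.2.2.1 hp'.2.2.2⟩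
          · rintro ⟨x, y⟩ _; rfl
        rw [Finset.sum_const, nsmul_eq_mul, mul_one] at h11
        exact h11
      rw [hP1] at h10
      exact absurd h10 (by decide)
  · refine ⟨u1, ?_⟩
    by_contra u2
    have h8 : ins zE = ∅ := by
      ext y
      rw [hins]
      simp only [Finset.notMem_empty, iff_false]
      rintro ⟨-, -, h3⟩
      rcases fst_cases y.1 with h | h
      · rw [h] at h3; exact u1 h3
      · rw [h] at h3; exact u2 h3
    rw [h8, Finset.card_empty] at hin3
    omega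

/-- The tournament property. -/
theorem arr_back [IsSimpleGroup G] (E : Emb G) (h16 : ¬ 16 ∣ Nat.card G) {w : CA} (h1 : w ≠ 1)
    (h2 : w ≠ zz) (hsq : w * w = 1) : Arr (E.iota w) (E.iota zz) ↔ w.1 = e1 := by
  obtain ⟨c1, c2⟩ := count_aux (rr E) (rr_z E) (fun y h1 h2 => rr_orbit E h1 h2)
    (fun x hx => exists_perm E h16 hx)
  -- conjugate `w` into `S`
  have hw2 : w.2 * w.2 = 1 := congrArg Prod.snd hsq
  have hw2' : w.2 ≠ 1 := by
    intro h
    rcases fst_cases w.1 with h3 | h3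
    · exact h1 (Prod.ext h3 h)
    · exact h2 (Prod.ext h3 h)
  obtain ⟨γ, hγ⟩ := a5_inv_conj w.2 hw2' hw2
  have hc : (1, γ) * kap (w.1, e1, 1) * (1, γ)⁻¹ = w := by
    have h3 : vv e1 1 = v1 := by decide +kernel
    refine Prod.ext ?_ ?_
    · change 1 * w.1 * 1⁻¹ = w.1
      group
    · change γ * vv e1 1 * γ⁻¹ = w.2
      rw [h3, hγ]
  have key : Arr (E.iota w) (E.iota zz) ↔ rr E (w.1, e1, 1) zE := by
    have h4 : E.iota w = E.iota (1, γ) * E.iota (kap (w.1, e1, 1)) * (E.iota (1, γ))⁻¹ := by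
      rw [← map_inv, ← map_mul, ← map_mul, hc]
    have h5 : E.iota zz = E.iota (1, γ) * E.iota zz * (E.iota (1, γ))⁻¹ := by
      rw [← map_inv, ← map_mul, ← map_mul, zz_center, mul_inv_cancel_right]
    rw [h4]
    conv_lhs => rw [h5]
    rw [arr_conj_iff]
    unfold rr
    rw [kap_zE]
  rw [key]
  rcases fst_cases w.1 with h | h
  · rw [h]
    constructor
    · intro h3; exact absurd h3 c1
    · intro h3; exact absurd h3 (by decide)
  · rw [h]
    exact ⟨fun _ => rfl, fun _ => c2⟩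

/-- Exactly one direction holds. -/
theorem tournament [IsSimpleGroup G] (E : Emb G) (h16 : ¬ 16 ∣ Nat.card G) {x y : G}
    (hx : x * x = 1) (hx1 : x ≠ 1) (hy : y * y = 1) (hy1 : y ≠ 1) (hxy : x ≠ y)
    (hc : x * y = y * x) : Arr x y ↔ ¬ Arr y x := by
  obtain ⟨E', rfl⟩ := exists_emb_inv E h16 hx hx1
  obtain ⟨w, rfl⟩ := E'.cent y hc.symm
  have h1 : w ≠ 1 := by rintro rfl; exact hy1 (map_one _)
  have h2 : w ≠ zz := by rintro rfl; exact hxy rfl
  have h3 : w * w = 1 := by
    apply E'.inj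
    rw [map_mul, hy, map_one]
  rw [arr_back E' h16 h1 h2 h3, arr_iff]
  rcases fst_cases w.1 with h | h
  · rw [h]; decide
  · rw [h]; decide

end

end Cfsg.Agent.JC
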