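import Mathlib.Algebra.Group.Subgroup.Basic
import Mathlib.Data.List.Rotate
import Mathlib.SetTheory.Cardinal.Finite
import Mathlib.Tactic

/-!
# A certificate checker for coset enumerations

The group is generated by involutions `g 0, g 1, ...`; `g 9 = 1`.  A fact `(a, x, b)` says that
`rep a * g x * (rep b)⁻¹ ∈ H`.  Facts are packed in natural numbers and verified by the kernel.
-/

set_option autoImplicit false

namespace Cfsg.Agent.TC

/-- Bounded conjunction. -/
def allN (n : ℕ) (p : ℕ → Bool) : Bool := Nat.rec true (fun k r => p k && r) n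

theorem allN_spec {n : ℕ} {p : ℕ → Bool} (h : allN n p = true) : ∀ k < n, p k = true := by
  induction n with
  | zero => intro k hk; exact absurd hk (Nat.not_lt_zero k)
  | succ n ih =>
    have h2 : (p n && allN n p) = true := h
    rw [Bool.and_eq_true] at h2
    intro k hk
    rcases Nat.lt_succ_iff_lt_or_eq.mp hk with h3 | rfl
    · exact ih h2.2 k h3
    · exact h2.1

def fa (FA i : ℕ) : ℕ := (FA >>> (28 * i)) % 4096
def fb (FA i : ℕ) : ℕ := (FA >>> (28 * i + 12)) % 4096
def fx (FA i : ℕ) : ℕ := (FA >>> (28 * i + 24)) % 16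

/-- Walk along previously established facts. -/
def walk (FA RF i b x : ℕ) : ℕ → ℕ → ℕ → List ℕ → Bool
  | 0, _, c, [] => Nat.beq c b && Nat.beq x 9
  | 0, _, c, [y] => Nat.beq c b && Nat.beq x y
  | 0, _, _, _ :: _ :: _ => false
  | n + 1, p, c, w =>
    bif Nat.blt ((RF >>> (12 * p)) % 4096) i then
      bif Nat.beq (fx FA ((RF >>> (12 * p)) % 4096)) 9 then
        bif Nat.beq c (fa FA ((RF >>> (12 * p)) % 4096)) then
          walk FA RF i b x n (p + 1) (fb FA ((RF >>> (12 * p)) % 4096)) w
        else bif Nat.beq c (fb FA ((RF >>> (12 * p)) % 4096)) then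
          walk FA RF i b x n (p + 1) (fa FA ((RF >>> (12 * p)) % 4096)) w
        else false
      else
        match w with
        | [] => false
        | z :: w' =>
          bif Nat.beq z (fx FA ((RF >>> (12 * p)) % 4096)) then
            bif Nat.beq c (fa FA ((RF >>> (12 * p)) % 4096)) then
              walk FA RF i b x n (p + 1) (fb FA ((RF >>> (12 * p)) % 4096)) w'
            else bif Nat.beq c (fb FA ((RF >>> (12 * p)) % 4096)) then
              walk FA RF i b x n (p + 1) (fa FA ((RF >>> (12 * p)) % 4096)) w'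
            else false
          else false
    else false

def ro (RO i : ℕ) : ℕ := (RO >>> (34 * i)) % 1048576
def rl (RO i : ℕ) : ℕ := (RO >>> (34 * i + 20)) % 64
def rk (RO i : ℕ) : ℕ := (RO >>> (34 * i + 26)) % 256

/-- Check one fact. -/
def chk1 (L ns FA RO RF : ℕ) (rules : List (List ℕ)) (subs : List ℕ) (i : ℕ) : Bool :=
  bif Nat.blt i L then
    Nat.beq (fb FA i) (i + 1) && Nat.ble (fa FA i) i
  else bif Nat.blt i (L + ns) then
    Nat.beq (fa FA i) 0 && Nat.beq (fb FA i) 0 && subs.elem (fx FA i)
  else
    walk FA RF i (fb FA i) (fx FA i) (rl RO i) (ro RO i) (fa FA i) (rules.getD (rk RO i) [0])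

def chk (L ns m FA RO RF : ℕ) (rules : List (List ℕ)) (subs : List ℕ) : Bool :=
  allN m (chk1 L ns FA RO RF rules subs)

section

variable {Γ : Type*} [Group Γ] (H : Subgroup Γ) (g : ℕ → Γ) (rep : ℕ → Γ)

/-- The value of a word. -/
def val (w : List ℕ) : Γ := (w.map g).prod

theorem val_nil : val g [] = 1 := rfl

theorem val_cons (x : ℕ) (w : List ℕ) : val g (x :: w) = g x * val g w := by
  simp [val]

theorem val_append (u w : List ℕ) : val g (u ++ w) = val g u * val g w := by
  simp [val]

/-- The meaning of a fact. -/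
def Rel (a b : ℕ) (z : Γ) : Prop := rep a * z * (rep b)⁻¹ ∈ H

variable {H g rep}

theorem Rel.mul {a b c : ℕ} {y z : Γ} (h1 : Rel H rep a b y) (h2 : Rel H rep b c z) :
    Rel H rep a c (y * z) := by
  unfold Rel at *
  have := H.mul_mem h1 h2
  have e : rep a * y * (rep b)⁻¹ * (rep b * z * (rep c)⁻¹) = rep a * (y * z) * (rep c)⁻¹ := by
    group
  rwa [e] at this

theorem Rel.inv {a b : ℕ} {y : Γ} (h1 : Rel H rep a b y) : Rel H rep b a y⁻¹ := by
  unfold Rel at *
  have := H.inv_mem h1
  have e : (rep a * y * (rep b)⁻¹)⁻¹ = rep b * y⁻¹ * (rep a)⁻¹ := by group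
  rwa [e] at this

theorem Rel.refl (a : ℕ) : Rel H rep a a 1 := by
  unfold Rel
  rw [mul_one, mul_inv_cancel]
  exact H.one_mem

theorem Rel.symm' {a b x : ℕ} (hg : g x * g x = 1) (h1 : Rel H rep a b (g x)) :
    Rel H rep b a (g x) := by
  have h2 := h1.inv
  rwa [inv_eq_of_mul_eq_one_left hg] at h2

theorem walk_sound {FA RF i b x : ℕ} (hg : ∀ j, g j * g j = 1) (h9 : g 9 = 1)
    (hprev : ∀ r < i, Rel H rep (fa FA r) (fb FA r) (g (fx FA r))) (a : ℕ) :
    ∀ (n p c : ℕ) (w : List ℕ) (u : Γ), walk FA RF i b x n p c w = true → Rel H rep a c u →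
      u * val g w = 1 → Rel H rep a b (g x) := by
  have hinv : ∀ j, (g j)⁻¹ = g j := fun j => inv_eq_of_mul_eq_one_left (hg j)
  intro n
  induction n with
  | zero =>
    intro p c w u h hu hw
    match w, h with
    | [], h =>
      unfold walk at h
      rw [Bool.and_eq_true] at h
      have h1 := Nat.eq_of_beq_eq_true h.1
      have h2 := Nat.eq_of_beq_eq_true h.2
      rw [val_nil, mul_one] at hw
      rw [h2, h9, ← h1, ← hw]
      exact hu
    | [y], h =>
      unfold walk at h
      rw [Bool.and_eq_true] at h
      have h1 := Nat.eq_of_beq_eq_true h.1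
      have h2 := Nat.eq_of_beq_eq_true h.2
      rw [val_cons, val_nil, mul_one] at hw
      have h3 : u = g y := by
        rw [← hinv y]
        exact eq_inv_of_mul_eq_one_left hw
      rw [h2, ← h1, ← h3]
      exact hu
    | _ :: _ :: _, h =>
      unfold walk at h
      exact absurd h Bool.false_ne_true
  | succ n ih =>
    intro p c w u h hu hw
    unfold walk at h
    set r := (RF >>> (12 * p)) % 4096 with hr
    cases h1 : Nat.blt r i with
    | false => rw [h1] at h; exact absurd h Bool.false_ne_true
    | true =>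
      rw [h1, cond_true] at h
      have hri : r < i := by
        rw [Nat.blt_eq] at h1
        exact h1
      have hf := hprev r hri
      cases h2 : Nat.beq (fx FA r) 9 with
      | true =>
        rw [h2, cond_true] at h
        have h3 := Nat.eq_of_beq_eq_true h2
        rw [h3, h9] at hf
        cases h4 : Nat.beq c (fa FA r) with
        | true =>
          rw [h4, cond_true] at h
          have h5 := Nat.eq_of_beq_eq_true h4
          rw [← h5] at hf
          refine ih (p + 1) _ w (u * 1) h (hu.mul hf) ?_
          rw [mul_one]; exact hw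
        | false =>
          rw [h4, cond_false] at h
          cases h6 : Nat.beq c (fb FA r) with
          | false => rw [h6] at h; exact absurd h Bool.false_ne_true
          | true =>
            rw [h6, cond_true] at h
            have h5 := Nat.eq_of_beq_eq_true h6
            rw [← h5] at hf
            have hf' := hf.inv
            rw [inv_one] at hf'
            refine ih (p + 1) _ w (u * 1) h (hu.mul hf') ?_
            rw [mul_one]; exact hw
      | false =>
        rw [h2, cond_false] at h
        match w, h with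
        | [], h => exact absurd h Bool.false_ne_true
        | z :: w', h =>
          dsimp only at h
          cases h3 : Nat.beq z (fx FA r) with
          | false => rw [h3] at h; exact absurd h Bool.false_ne_true
          | true =>
            rw [h3, cond_true] at h
            have hz := Nat.eq_of_beq_eq_true h3
            rw [← hz] at hf
            rw [val_cons, ← mul_assoc] at hw
            cases h4 : Nat.beq c (fa FA r) with
            | true =>
              rw [h4, cond_true] at h
              have h5 := Nat.eq_of_beq_eq_true h4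
              rw [← h5] at hf
              exact ih (p + 1) _ w' (u * g z) h (hu.mul hf) hw
            | false =>
              rw [h4, cond_false] at h
              cases h6 : Nat.beq c (fb FA r) with
              | false => rw [h6] at h; exact absurd h Bool.false_ne_true
              | true =>
                rw [h6, cond_true] at h
                have h5 := Nat.eq_of_beq_eq_true h6
                rw [← h5] at hf
                exact ih (p + 1) _ w' (u * g z) h (hu.mul (hf.symm' (hg z))) hw

/-- Soundness of the checker. -/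
theorem chk_sound {L ns m FA RO RF : ℕ} {rules : List (List ℕ)} {subs : List ℕ}
    (h : chk L ns m FA RO RF rules subs = true) (hL : L ≤ m)
    (hg : ∀ j, g j * g j = 1) (h9 : g 9 = 1)
    (hr : ∀ w ∈ rules, val g w = 1)
    (hs : ∀ x ∈ subs, g x ∈ H) (hrk : ∀ i < m, rk RO i < rules.length) :
    ∃ rep : ℕ → Γ, rep 0 = 1 ∧ ∀ i < m, Rel H rep (fa FA i) (fb FA i) (g (fx FA i)) := by
  have hc := allN_spec h
  -- representatives
  have hrep : ∀ n ≤ L, ∃ rep : ℕ → Γ, rep 0 = 1 ∧
      ∀ i < n, rep (i + 1) = rep (fa FA i) * g (fx FA i) := by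
    intro n
    induction n with
    | zero => intro _; exact ⟨fun _ => 1, rfl, fun i hi => absurd hi (Nat.not_lt_zero i)⟩
    | succ n ih =>
      intro hn
      obtain ⟨rep, hrep0, hrep⟩ := ih (by omega)
      have h1 := hc n (by omega)
      unfold chk1 at h1
      have h2 : Nat.blt n L = true := by rw [Nat.blt_eq]; omega
      rw [h2, cond_true, Bool.and_eq_true] at h1
      have h3 : fa FA n ≤ n := Nat.le_of_ble_eq_true h1.2
      refine ⟨Function.update rep (n + 1) (rep (fa FA n) * g (fx FA n)), ?_, ?_⟩
      · rw [Function.update_of_ne (by omega)]; exact hrep0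
      · intro i hi
        have h4 : fa FA i ≤ i := by
          have h5 := hc i (by omega)
          unfold chk1 at h5
          have h6 : Nat.blt i L = true := by rw [Nat.blt_eq]; omega
          rw [h6, cond_true, Bool.and_eq_true] at h5
          exact Nat.le_of_ble_eq_true h5.2
        rcases Nat.lt_succ_iff_lt_or_eq.mp hi with h5 | rfl
        · rw [Function.update_of_ne (by omega), Function.update_of_ne (by omega), hrep i h5]
        · rw [Function.update_self, Function.update_of_ne (by omega)]
  obtain ⟨rep, hrep0, hrep⟩ := hrep L le_rfl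
  refine ⟨rep, hrep0, ?_⟩
  intro i
  induction i using Nat.strong_induction_on with
  | _ i ih =>
    intro hi
    have h1 := hc i hi
    unfold chk1 at h1
    cases h2 : Nat.blt i L with
    | true =>
      rw [h2, cond_true, Bool.and_eq_true] at h1
      have h3 := Nat.eq_of_beq_eq_true h1.1
      have h4 : i < L := by rw [Nat.blt_eq] at h2; exact h2
      rw [h3]
      unfold Rel
      rw [hrep i h4, mul_inv_cancel]
      exact H.one_mem
    | false =>
      rw [h2, cond_false] at h1
      cases h3 : Nat.blt i (L + ns) with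
      | true =>
        rw [h3, cond_true, Bool.and_eq_true, Bool.and_eq_true] at h1
        have h4 := Nat.eq_of_beq_eq_true h1.1.1
        have h5 := Nat.eq_of_beq_eq_true h1.1.2
        have h6 : fx FA i ∈ subs := List.mem_of_elem_eq_true h1.2
        rw [h4, h5]
        unfold Rel
        rw [hrep0, one_mul, inv_one, mul_one]
        exact hs _ h6
      | false =>
        rw [h3, cond_false] at h1
        have h4 : rules.getD (rk RO i) [0] ∈ rules := by
          have h5 := hrk i hi
          rw [List.getD_eq_getElem?_getD, List.getElem?_eq_getElem h5, Option.getD_some]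
          exact List.getElem_mem h5
        refine walk_sound hg h9 (fun r hr' => ih r hr' (by omega)) (fa FA i) _ _ _ _ 1 h1
          (Rel.refl _) ?_
        rw [one_mul]
        exact hr _ h4

end

/-- Edge index. -/
def ei (EI a j : ℕ) : ℕ := (EI >>> (12 * (4 * a + j))) % 4096

/-- The other endpoint. -/
def nb (FA EI a j : ℕ) : ℕ :=
  bif Nat.beq (fa FA (ei EI a j)) a then fb FA (ei EI a j) else fa FA (ei EI a j)

def chkE1 (L m FA EI a j : ℕ) : Bool :=
  Nat.blt (ei EI a j) m && Nat.beq (fx FA (ei EI a j)) j &&
    ((Nat.beq (fa FA (ei EI a j)) a && Nat.ble (fb FA (ei EI a j)) L) ||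
    (Nat.beq (fb FA (ei EI a j)) a && Nat.ble (fa FA (ei EI a j)) L))

def chkE (L m FA EI : ℕ) (js : List ℕ) : Bool :=
  allN (L + 1) (fun a => js.all (fun j => chkE1 L m FA EI a j))

/-- Trace a word. -/
def tr (FA EI : ℕ) : ℕ → List ℕ → ℕ
  | a, [] => a
  | a, j :: w => tr FA EI (nb FA EI a j) w

section

variable {Γ : Type*} [Group Γ] {H : Subgroup Γ} {g : ℕ → Γ} {rep : ℕ → Γ}

theorem nb_sound {L m FA EI : ℕ} {js : List ℕ} (h : chkE L m FA EI js = true)
    (hg : ∀ j, g j * g j = 1)
    (hf : ∀ i < m, Rel H rep (fa FA i) (fb FA i) (g (fx FA i))) {a j : ℕ} (ha : a ≤ L)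
    (hj : j ∈ js) : nb FA EI a j ≤ L ∧ Rel H rep a (nb FA EI a j) (g j) := by
  have h1 := allN_spec h a (by omega)
  rw [List.all_eq_true] at h1
  have h2 := h1 j hj
  unfold chkE1 at h2
  rw [Bool.and_eq_true, Bool.and_eq_true] at h2
  obtain ⟨⟨h3, h4⟩, h5⟩ := h2
  have h6 : ei EI a j < m := by rw [Nat.blt_eq] at h3; exact h3
  have h7 := Nat.eq_of_beq_eq_true h4
  have h8 := hf _ h6
  rw [h7] at h8
  unfold nb
  cases h9 : Nat.beq (fa FA (ei EI a j)) a with
  | true =>
    rw [cond_true]
    have h10 := Nat.eq_of_beq_eq_true h9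
    rw [h10] at h8
    refine ⟨?_, h8⟩
    rw [h9, Bool.true_and, Bool.or_eq_true] at h5
    rcases h5 with h | h
    · exact Nat.le_of_ble_eq_true h
    · rw [Bool.and_eq_true] at h
      have := Nat.eq_of_beq_eq_true h.1
      omega
  | false =>
    rw [cond_false]
    rw [h9, Bool.false_and, Bool.false_or, Bool.and_eq_true] at h5
    have h10 := Nat.eq_of_beq_eq_true h5.1
    have h11 := Nat.le_of_ble_eq_true h5.2
    rw [h10] at h8
    exact ⟨h11, h8.symm' (hg j)⟩

theorem tr_sound {L m FA EI : ℕ} {js : List ℕ} (h : chkE L m FA EI js = true)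
    (hg : ∀ j, g j * g j = 1)
    (hf : ∀ i < m, Rel H rep (fa FA i) (fb FA i) (g (fx FA i))) :
    ∀ (w : List ℕ), (∀ j ∈ w, j ∈ js) → ∀ a ≤ L, tr FA EI a w ≤ L ∧
      Rel H rep a (tr FA EI a w) (val g w) := by
  intro w
  induction w with
  | nil => intro _ a ha; exact ⟨ha, Rel.refl a⟩
  | cons j w ih =>
    intro hw a ha
    obtain ⟨h1, h2⟩ := nb_sound h hg hf ha (hw j List.mem_cons_self)
    obtain ⟨h3, h4⟩ := ih (fun i hi => hw i (List.mem_cons_of_mem _ hi)) _ h1
    refine ⟨h3, ?_⟩
    rw [val_cons]
    exact h2.mul h4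

/-- The cosets cover the group. -/
theorem cover {L m FA EI : ℕ} {js : List ℕ} (h : chkE L m FA EI js = true)
    (hg : ∀ j, g j * g j = 1)
    (hf : ∀ i < m, Rel H rep (fa FA i) (fb FA i) (g (fx FA i))) {k : Γ}
    (hk : k ∈ Subgroup.closure (g '' {j | j ∈ js})) : ∀ a ≤ L, ∃ b ≤ L, Rel H rep a b k := by
  induction hk using Subgroup.closure_induction with
  | mem x hx =>
    obtain ⟨j, hj, rfl⟩ := hx
    intro a ha
    obtain ⟨h1, h2⟩ := nb_sound h hg hf ha hj
    exact ⟨_, h1, h2⟩
  | one => intro a ha; exact ⟨a, ha, Rel.refl a⟩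
  | mul x y _ _ hx hy =>
    intro a ha
    obtain ⟨b, hb, h1⟩ := hx a ha
    obtain ⟨c, hc, h2⟩ := hy b hb
    exact ⟨c, hc, h1.mul h2⟩
  | inv x hx' hx =>
    -- the generators are involutions, so the inverse is again a product of generators
    have hinv : x⁻¹ ∈ Subgroup.closure (g '' {j | j ∈ js}) := Subgroup.inv_mem _ hx'
    -- words
    have hword : ∀ z ∈ Subgroup.closure (g '' {j | j ∈ js}), ∃ w : List ℕ, (∀ j ∈ w, j ∈ js) ∧
        val g w = z := by
      intro z hz
      induction hz using Subgroup.closure_induction with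
      | mem z hz =>
        obtain ⟨j, hj, rfl⟩ := hz
        exact ⟨[j], by simpa using hj, by rw [val_cons, val_nil, mul_one]⟩
      | one => exact ⟨[], by simp, rfl⟩
      | mul z y _ _ hz hy =>
        obtain ⟨w1, h1, e1⟩ := hz
        obtain ⟨w2, h2, e2⟩ := hy
        refine ⟨w1 ++ w2, ?_, by rw [val_append, e1, e2]⟩
        intro j hj
        rcases List.mem_append.mp hj with h | h
        · exact h1 j h
        · exact h2 j h
      | inv z _ hz =>
        obtain ⟨w, h1, e1⟩ := hz
        refine ⟨w.reverse, fun j hj => h1 j (List.mem_reverse.mp hj), ?_⟩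
        rw [← e1]
        clear e1 h1
        induction w with
        | nil => simp [val]
        | cons j w ih =>
          rw [List.reverse_cons, val_append, ih, val_cons, val_cons, val_nil, mul_one, mul_inv_rev,
            inv_eq_of_mul_eq_one_left (hg j)]
    obtain ⟨w, h1, e1⟩ := hword _ hinv
    intro a ha
    obtain ⟨h3, h4⟩ := tr_sound h hg hf w h1 a ha
    rw [e1] at h4
    exact ⟨_, h3, h4⟩

/-- Bound for the order of the generated subgroup. -/
theorem card_le {L m FA EI : ℕ} {js : List ℕ} (h : chkE L m FA EI js = true)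
    (hg : ∀ j, g j * g j = 1) (h0 : rep 0 = 1)
    (hf : ∀ i < m, Rel H rep (fa FA i) (fb FA i) (g (fx FA i))) [Finite H] :
    Finite (Subgroup.closure (g '' {j | j ∈ js})) ∧
    Nat.card (Subgroup.closure (g '' {j | j ∈ js})) ≤ (L + 1) * Nat.card H := by
  set K := Subgroup.closure (g '' {j | j ∈ js}) with hK
  have hc := fun (k : Γ) (hk : k ∈ K) => cover h hg hf hk 0 (Nat.zero_le _)
  -- an injection
  have hex : ∀ k : K, ∃ q : Fin (L + 1) × H, (k : Γ) = (q.2 : Γ) * rep q.1 := by
    intro k
    obtain ⟨b, hb, h1⟩ := hc k.1 k.2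
    unfold Rel at h1
    rw [h0, one_mul] at h1
    refine ⟨(⟨b, by omega⟩, ⟨_, h1⟩), ?_⟩
    simp
  choose q hq using hex
  have hinj : Function.Injective q := by
    intro k k' hkk
    apply Subtype.ext
    rw [hq k, hq k', hkk]
  have hfin : Finite K := Finite.of_injective q hinj
  refine ⟨hfin, ?_⟩
  have h2 := Nat.card_le_card_of_injective q hinj
  rwa [Nat.card_prod, Nat.card_fin] at h2

end

section

variable {Γ : Type*} [Group Γ] {g : ℕ → Γ}

theorem val_reverse (hg : ∀ j, g j * g j = 1) (w : List ℕ) : val g w.reverse = (val g w)⁻¹ := by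
  induction w with
  | nil => simp [val]
  | cons j w ih =>
    rw [List.reverse_cons, val_append, ih, val_cons, val_cons, val_nil, mul_one, mul_inv_rev,
      inv_eq_of_mul_eq_one_left (hg j)]

theorem val_rotate {w : List ℕ} (h : val g w = 1) (n : ℕ) : val g (w.rotate n) = 1 := by
  unfold val at *
  rw [List.map_rotate]
  exact List.prod_rotate_eq_one_of_prod_eq_one h n

/-- The rules obtained from relators by rotation and reversal. -/
def rulesOf (base : List (List ℕ)) (specs : List (ℕ × ℕ × Bool)) : List (List ℕ) :=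
  specs.map fun s =>
    bif s.2.2 then ((base.getD s.1 []).reverse).rotate s.2.1 else (base.getD s.1 []).rotate s.2.1

theorem rulesOf_val (hg : ∀ j, g j * g j = 1) {base : List (List ℕ)}
    {specs : List (ℕ × ℕ × Bool)} (hb : ∀ r ∈ base, val g r = 1) :
    ∀ w ∈ rulesOf base specs, val g w = 1 := by
  intro w hw
  unfold rulesOf at hw
  rw [List.mem_map] at hw
  obtain ⟨s, -, rfl⟩ := hw
  have h1 : val g (base.getD s.1 []) = 1 := by
    rcases lt_or_ge s.1 base.length with h | h
    · rw [List.getD_eq_getElem?_getD, List.getElem?_eq_getElem h, Option.getD_some]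
      exact hb _ (List.getElem_mem h)
    · rw [List.getD_eq_getElem?_getD, List.getElem?_eq_none h, Option.getD_none]
      rfl
  cases s.2.2 with
  | true =>
    rw [cond_true]
    apply val_rotate
    rw [val_reverse hg, h1, inv_one]
  | false =>
    rw [cond_false]
    exact val_rotate h1 _

end

end Cfsg.Agent.TC
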