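import Cfsg.Agent.JU.Fuse
import Cfsg.Agent.H60.Gen2
import Cfsg.Agent.H60.Gen3
import Cfsg.Agent.JU.TC

/-! The centraliser of an element of order `5`. -/

set_option autoImplicit false

namespace Cfsg.Agent.JC

open Cfsg Subgroup Cfsg.Agent.H60

theorem c5_inv : ∃ y : CA, y * (1, c5) * y⁻¹ = (1, c5) ^ 4 := by decide +kernel
theorem c5_five : ((1, c5) : CA) ^ 5 = 1 := by decide +kernel
theorem c5_ne : ((1, c5) : CA) ≠ 1 := by decide +kernel
theorem c5_comm : ∀ y : CA, y * y = 1 → y * (1, c5) = (1, c5) * y → y = 1 ∨ y = zz := by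
  decide +kernel
theorem w1_comm : w1 * (1, c5) = (1, c5) * w1 := by decide +kernel
theorem w1_two : w1 ^ 2 ≠ 1 := by decide +kernel
theorem w1_five : w1 ^ 5 ≠ 1 := by decide +kernel

section

variable {G : Type*} [Group G] [Finite G]

theorem no_four (E : Emb G) (h16 : ¬ 16 ∣ Nat.card G) {w n : G} (hw : orderOf w = 5) {k : ℕ}
    (hk : k * k % 5 = 4) (h : n * w * n⁻¹ = w ^ k) : False := by
  obtain ⟨a, r, hr, hn⟩ := Nat.exists_eq_two_pow_mul_odd (orderOf_pos n).ne'
  have h1 : (n ^ r) ^ 2 ^ a = 1 := by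
    rw [← pow_mul, mul_comm, ← hn, pow_orderOf_eq_one]
  have h2 := two_sq E h16 h1
  have h3 : ∀ j : ℕ, n ^ j * w * (n ^ j)⁻¹ = w ^ k ^ j := by
    intro j
    induction j with
    | zero => simp
    | succ j ih =>
      have : n ^ (j + 1) * w * (n ^ (j + 1))⁻¹ = n * (n ^ j * w * (n ^ j)⁻¹) * n⁻¹ := by
        rw [pow_succ']; group
      rw [this, ih, ← conj_pow, h, ← pow_mul, pow_succ']
  have h4 := h3 (r + r)
  rw [pow_add, h2] at h4
  simp only [one_mul, inv_one, mul_one] at h4
  obtain ⟨s, hs⟩ := hr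
  have h5 : k ^ (r + r) ≡ 4 [MOD 5] := by
    have h6 : k ^ (r + r) = (k * k) ^ r := by rw [pow_add, mul_pow]
    rw [h6]
    have h7 : k * k ≡ 4 [MOD 5] := by
      change k * k % 5 = 4 % 5
      rw [hk]
    refine (h7.pow r).trans ?_
    rw [hs, pow_succ, pow_mul]
    have h8 : 4 ^ 2 ≡ 1 [MOD 5] := by decide
    have h9 := (h8.pow s).mul_right 4
    rwa [one_pow, one_mul] at h9
  have h6 : w ^ k ^ (r + r) = w ^ 4 := by
    rw [pow_eq_pow_iff_modEq, hw]
    exact h5
  rw [h6] at h4
  have h7 : w ^ 1 = w ^ 4 := by rw [pow_one]; exact h4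
  rw [pow_eq_pow_iff_modEq, hw] at h7
  exact absurd h7 (by decide)

theorem orderOf_w0 (E : Emb G) : orderOf (E.iota (1, c5)) = 5 := by
  have : Fact (Nat.Prime 5) := ⟨by norm_num⟩
  apply orderOf_eq_prime
  · rw [← map_pow, c5_five, map_one]
  · intro h
    rw [← map_one E.iota] at h
    exact c5_ne (E.inj h)

theorem ratio_w0 (E : Emb G) (h16 : ¬ 16 ∣ Nat.card G) : ratio (E.iota (1, c5)) = 2 := by
  set w := E.iota (1, c5) with hwdef
  have hw : orderOf w = 5 := orderOf_w0 E
  have hw5 : w ^ 5 = 1 := by rw [← hw]; exact pow_orderOf_eq_one w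
  have hne : ∀ i j : ℕ, i < 5 → j < 5 → w ^ i = w ^ j → i = j := by
    intro i j hi hj h
    rw [pow_eq_pow_iff_modEq, hw] at h
    rw [← Nat.mod_eq_of_lt hi, ← Nat.mod_eq_of_lt hj]
    exact h
  obtain ⟨y, hy⟩ := c5_inv
  have ha : E.iota y * w * (E.iota y)⁻¹ = w ^ 4 := by
    rw [hwdef, ← map_inv, ← map_mul, ← map_mul, hy, map_pow]
  have haN : E.iota y ∈ normalizer (zpowers w : Set G) := by
    apply mem_normalizer_of_conj_le
    rintro _ ⟨m, rfl⟩
    change E.iota y * w ^ m * (E.iota y)⁻¹ ∈ _
    rw [← conj_zpow, ha]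
    exact zpow_mem (pow_mem (mem_zpowers w) _) _
  unfold ratio
  change ((centralizer ({w} : Set G)).subgroupOf (normalizer (zpowers w : Set G))).index = 2
  rw [Subgroup.index_eq_two_iff]
  refine ⟨⟨E.iota y, haN⟩, ?_⟩
  rintro ⟨b, hb⟩
  rw [mem_subgroupOf, mem_subgroupOf]
  change Xor' (b * E.iota y ∈ _) (b ∈ _)
  rw [mem_centralizer_singleton_iff, mem_centralizer_singleton_iff]
  have h1 : b * w * b⁻¹ ∈ zpowers w := (mem_normalizer_zpowers.mp hb w).mp (mem_zpowers w)
  obtain ⟨k, hk5, hk⟩ : ∃ k, k < 5 ∧ w ^ k = b * w * b⁻¹ := by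
    rw [mem_zpowers_iff] at h1
    obtain ⟨m, hm⟩ := h1
    refine ⟨(m % 5).toNat, ?_, ?_⟩
    · have := Int.emod_lt_of_pos m (by norm_num : (0 : ℤ) < 5)
      omega
    · rw [← hm]
      have h2 : (((m % 5).toNat : ℕ) : ℤ) = m % 5 :=
        Int.toNat_of_nonneg (Int.emod_nonneg m (by norm_num))
      rw [← zpow_natCast, h2]
      have h3 : m = m % 5 + 5 * (m / 5) := by omega
      conv_rhs => rw [h3, zpow_add, zpow_mul]
      have h5 : w ^ (5 : ℤ) = 1 := by exact_mod_cast hw5
      rw [h5, one_zpow, mul_one]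
  have h2 : b * E.iota y * w * (b * E.iota y)⁻¹ = (b * w * b⁻¹) ^ 4 := by
    have : b * E.iota y * w * (b * E.iota y)⁻¹ = b * (E.iota y * w * (E.iota y)⁻¹) * b⁻¹ := by
      group
    rw [this, ha, conj_pow]
  have hc1 : b * w = w * b ↔ b * w * b⁻¹ = w := mul_inv_eq_iff_eq_mul.symm
  have hc2 : b * E.iota y * w = w * (b * E.iota y) ↔
      b * E.iota y * w * (b * E.iota y)⁻¹ = w := mul_inv_eq_iff_eq_mul.symm
  rw [hc1, hc2, h2, ← hk, ← pow_mul]
  have hk' : k = 0 ∨ k = 1 ∨ k = 2 ∨ k = 3 ∨ k = 4 := by omega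
  rcases hk' with rfl | rfl | rfl | rfl | rfl
  · exfalso
    rw [pow_zero] at hk
    have h3 : w = 1 := by
      have : b * w = b * 1 := by rw [mul_one]; exact (mul_inv_eq_one.mp hk.symm)
      exact mul_left_cancel this
    rw [h3, orderOf_one] at hw
    omega
  · right
    refine ⟨pow_one w, ?_⟩
    intro h
    have := hne 4 1 (by norm_num) (by norm_num) (by rw [pow_one]; simpa using h)
    omega
  · exact (no_four E h16 hw (by norm_num : 2 * 2 % 5 = 4) hk.symm).elim
  · exact (no_four E h16 hw (by norm_num : 3 * 3 % 5 = 4) hk.symm).elim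
  · left
    refine ⟨?_, ?_⟩
    · have : w ^ (4 * 4) = w ^ 1 := by
        rw [pow_eq_pow_iff_modEq, hw]; decide
      rw [this, pow_one]
    · intro h
      have := hne 4 1 (by norm_num) (by norm_num) (by rw [pow_one]; exact h)
      omega

theorem ten_dvd (E : Emb G) : 10 ∣ Nat.card (centralizer ({E.iota (1, c5)} : Set G)) := by
  have h1 : orderOf (E.iota w1) ∣ Nat.card (centralizer ({E.iota (1, c5)} : Set G)) := by
    apply orderOf_dvd_centralizer_of_commute
    rw [← map_mul, ← map_mul, w1_comm]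
  have h2 : orderOf (E.iota w1) = 10 := by
    have h3 : E.iota w1 ^ 10 = 1 := by rw [← map_pow, w1_pow10, map_one]
    have h4 := orderOf_dvd_of_pow_eq_one h3
    have h5 : ¬ orderOf (E.iota w1) ∣ 2 := by
      intro h
      apply w1_two
      apply E.inj
      rw [map_pow, map_one]
      exact orderOf_dvd_iff_pow_eq_one.mp h
    have h6 : ¬ orderOf (E.iota w1) ∣ 5 := by
      intro h
      apply w1_five
      apply E.inj
      rw [map_pow, map_one]
      exact orderOf_dvd_iff_pow_eq_one.mp h
    have h7 : orderOf (E.iota w1) ≤ 10 := Nat.le_of_dvd (by norm_num) h4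
    interval_cases orderOf (E.iota w1) <;> omega
  rwa [h2] at h1

theorem not_four_dvd (E : Emb G) (h16 : ¬ 16 ∣ Nat.card G) :
    ¬ 4 ∣ Nat.card (centralizer ({E.iota (1, c5)} : Set G)) := by
  intro h4
  have : Fact (Nat.Prime 2) := ⟨Nat.prime_two⟩
  set C := centralizer ({E.iota (1, c5)} : Set G) with hC
  have htC : E.iota zz ∈ C := by
    rw [hC, mem_centralizer_singleton_iff, ← map_mul, ← map_mul, zz_center]
  set t : C := ⟨E.iota zz, htC⟩ with ht
  have ho : orderOf t = 2 := by
    apply orderOf_eq_prime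
    · apply Subtype.ext
      rw [pow_two]
      exact E.zz_sq'
    · intro h
      exact E.zz_ne' (congrArg Subtype.val h)
  have h1 : IsPGroup 2 (zpowers t) := by
    apply IsPGroup.of_card (n := 1)
    rw [Nat.card_zpowers, ho, pow_one]
  obtain ⟨Q, hQ⟩ := h1.exists_le_sylow
  have h5 : 4 ∣ Nat.card Q := Sylow.pow_dvd_card_of_pow_dvd_card (n := 2) Q h4
  have hall : ∀ x : C, x ∈ (Q : Subgroup C) → (x : G) * x = 1 := by
    intro x hx
    obtain ⟨k, hk⟩ := Q.2 ⟨x, hx⟩
    have h6 : (x : G) ^ 2 ^ k = 1 := by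
      have := congrArg (fun z : Q => ((z : C) : G)) hk
      simpa using this
    exact two_sq E h16 h6
  have htwo : ∀ x : C, x ∈ (Q : Subgroup C) → x = 1 ∨ x = t := by
    intro x hx
    have e1 := hall x hx
    have e2 := hall (x * t) (mul_mem hx (hQ (mem_zpowers t)))
    have e3 : (x : G) * E.iota zz = E.iota zz * x := by
      have e4 : (x : G) * E.iota zz * (x * E.iota zz) = 1 := e2
      have e5 : (x : G) * E.iota zz = (x * E.iota zz)⁻¹ := eq_inv_of_mul_eq_one_left e4
      rw [e5, mul_inv_rev, inv_eq_of_mul_eq_one_left e1, inv_eq_of_mul_eq_one_left E.zz_sq']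
    obtain ⟨y, hy⟩ := E.cent x e3
    have e6 : y * y = 1 := by
      apply E.inj
      rw [map_mul, hy, e1, map_one]
    have e7 : y * (1, c5) = (1, c5) * y := by
      apply E.inj
      rw [map_mul, map_mul, hy]
      exact mem_centralizer_singleton_iff.mp x.2
    rcases c5_comm y e6 e7 with h | h
    · left
      apply Subtype.ext
      rw [← hy, h, map_one]
      rfl
    · right
      apply Subtype.ext
      rw [← hy, h]
  have hle : (Q : Subgroup C) ≤ zpowers t := by
    intro x hx
    rcases htwo x hx with h | h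
    · rw [h]; exact one_mem _
    · rw [h]; exact mem_zpowers t
  have h6 := Subgroup.card_dvd_of_le hle
  rw [Nat.card_zpowers, ho] at h6
  have h7 := h5.trans h6
  omega

/-- An element of prime order whose Sylow subgroup is normal in `C`. -/
theorem le_normalizer_of_count {C : Subgroup G} {p : ℕ} (hp : p.Prime) {q : G} (hqC : q ∈ C)
    (hq : orderOf q = p) (h2 : ¬ p ^ 2 ∣ Nat.card C)
    (hd : ∀ d, d * p ∣ Nat.card C → d % p = 1 % p → d = 1) :
    C ≤ normalizer (zpowers q : Set G) := by
  have : Fact p.Prime := ⟨hp⟩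
  set z : C := ⟨q, hqC⟩ with hz
  have hzo : orderOf z = p := by rw [hz, Subgroup.orderOf_mk, hq]
  have h1 := index_normalizer_modEq hzo h2
  have h3 : (normalizer (zpowers z : Set C)).index * p ∣ Nat.card C := by
    rw [← Subgroup.index_mul_card (normalizer (zpowers z : Set C))]
    apply Nat.mul_dvd_mul_left
    have h4 : Nat.card (zpowers z) ∣ Nat.card (normalizer (zpowers z : Set C)) :=
      Subgroup.card_dvd_of_le le_normalizer
    rwa [Nat.card_zpowers, hzo] at h4
  have h5 := hd _ h3 h1
  rw [Subgroup.index_eq_one] at h5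
  intro c hc
  apply mem_normalizer_of_conj_le
  rintro _ ⟨m, rfl⟩
  change c * q ^ m * c⁻¹ ∈ _
  have h6 : (⟨c, hc⟩ : C) ∈ normalizer (zpowers z : Set C) := by rw [h5]; exact mem_top _
  have h7 := (mem_normalizer_zpowers.mp h6 (z ^ m)).mp (zpow_mem (mem_zpowers z) m)
  obtain ⟨k, hk⟩ := h7
  refine ⟨k, ?_⟩
  have := congrArg Subtype.val hk
  simpa using this

end

section

variable {G : Type*} [Group G] [Finite G] [IsSimpleGroup G]

/-- In a simple group, a subgroup of prime order is not normal unless the group has prime order. -/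
theorem index_normalizer_ne_one {q : G} (hq : q ≠ 1) (hG : Nat.card G ≠ orderOf q) :
    (normalizer (zpowers q : Set G)).index ≠ 1 := by
  intro h
  rw [Subgroup.index_eq_one] at h
  have hN : (zpowers q).Normal := Subgroup.normalizer_eq_top_iff.mp h
  rcases hN.eq_bot_or_eq_top with h1 | h1
  · rw [zpowers_eq_bot] at h1
    exact hq h1
  · apply hG
    rw [← Nat.card_zpowers, h1, Subgroup.card_top]

theorem cent_inv_card (E : Emb G) (h16 : ¬ 16 ∣ Nat.card G) {x : G} (hx : orderOf x = 2) :
    Nat.card (centralizer ({x} : Set G)) = 120 := by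
  have h1 : x * x = 1 := by rw [← pow_two, ← hx]; exact pow_orderOf_eq_one x
  have h2 : x ≠ 1 := by
    rintro rfl
    rw [orderOf_one] at hx
    omega
  obtain ⟨E', rfl⟩ := exists_emb_inv E h16 h1 h2
  exact E'.card_cent_zz

theorem num_m : TC.allN 8779 (fun m => !((Nat.beq (8778 % m) 0) && (Nat.beq (m % 2) 1) &&
    (Nat.beq ((8778 / m) % 5) 1)) || Nat.beq m 3 || Nat.beq m 33 || Nat.beq m 133 ||
    Nat.beq m 1463) = true := by
  decide +kernel

/-- The centraliser of an element of order `5` has order `30`. -/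
theorem card_cent_w0 (E : Emb G) (h16 : ¬ 16 ∣ Nat.card G) (hG : Nat.card G = 175560) :
    Nat.card (centralizer ({E.iota (1, c5)} : Set G)) = 30 := by
  have : Fact (Nat.Prime 5) := ⟨by norm_num⟩
  set w := E.iota (1, c5) with hwdef
  set C := centralizer ({w} : Set G) with hC
  have hw : orderOf w = 5 := orderOf_w0 E
  have h5 : ¬ 5 ^ 2 ∣ Nat.card G := by rw [hG]; norm_num
  have hidx := index_normalizer_modEq hw h5
  have hmul := Subgroup.index_mul_card (normalizer (zpowers w : Set G))
  rw [card_normalizer_eq, ratio_w0 E h16, hG] at hmul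
  set n5 := (normalizer (zpowers w : Set G)).index with hn5
  obtain ⟨m, hm⟩ := ten_dvd E
  have h4 := not_four_dvd E h16
  rw [← hwdef, ← hC] at hm h4
  rw [hm] at h4
  have hmodd : m % 2 = 1 := by omega
  have hnm : n5 * m = 8778 := by
    have : n5 * (10 * m * 2) = 175560 := by rw [← hmul, ← hm]
    nlinarith
  have hmpos : 0 < m := by
    rcases Nat.eq_zero_or_pos m with h | h
    · rw [h] at hnm; omega
    · exact h
  have hmle : m ≤ 8778 := by
    rw [← hnm]
    apply Nat.le_mul_of_pos_left
    rcases Nat.eq_zero_or_pos n5 with h | h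
    · rw [h] at hnm; omega
    · exact h
  have hm4 : m = 3 ∨ m = 33 ∨ m = 133 ∨ m = 1463 := by
    have h6 := TC.allN_spec num_m m (by omega)
    have e1 : Nat.beq (8778 % m) 0 = true := by
      rw [← hnm, Nat.mul_mod_left]
      rfl
    have e2 : Nat.beq (m % 2) 1 = true := by rw [hmodd]; rfl
    have e3 : Nat.beq (8778 / m % 5) 1 = true := by
      rw [← hnm, Nat.mul_div_cancel _ hmpos]
      have : n5 % 5 = 1 := hidx
      rw [this]; rfl
    rw [e1, e2, e3] at h6
    simp only [Bool.and_self, Bool.not_true, Bool.false_or, Bool.or_eq_true] at h6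
    rcases h6 with ((h6 | h6) | h6) | h6
    · left; exact Nat.eq_of_beq_eq_true h6
    · right; left; exact Nat.eq_of_beq_eq_true h6
    · right; right; left; exact Nat.eq_of_beq_eq_true h6
    · right; right; right; exact Nat.eq_of_beq_eq_true h6
  rcases hm4 with h | h | h | h
  · rw [hm, h]
  · -- `m = 33`
    exfalso
    rw [h] at hm
    have hp : Nat.Prime 11 := by norm_num
    have : Fact (Nat.Prime 11) := ⟨hp⟩
    obtain ⟨⟨q, hqC⟩, hqo⟩ := exists_prime_orderOf_dvd_card' (G := C) 11 (by rw [hm]; norm_num)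
    rw [Subgroup.orderOf_mk] at hqo
    have hle : C ≤ normalizer (zpowers q : Set G) := by
      apply le_normalizer_of_count hp hqC hqo
      · rw [hm]; norm_num
      · intro d hd1 hd2
        rw [hm] at hd1
        have h6 : d ≤ 30 := by
          have := Nat.le_of_dvd (by norm_num) hd1
          omega
        interval_cases d <;> omega
    have h7 := Subgroup.card_dvd_of_le hle
    rw [hm] at h7
    have h8 := index_normalizer_modEq hqo (by rw [hG]; norm_num : ¬ 11 ^ 2 ∣ Nat.card G)
    have h9 := Subgroup.index_mul_card (normalizer (zpowers q : Set G))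
    rw [hG] at h9
    have h10 := index_normalizer_ne_one (q := q) (by
      rintro rfl; rw [orderOf_one] at hqo; omega) (by rw [hG, hqo]; norm_num)
    obtain ⟨j, hj⟩ := h7
    rw [hj] at h9
    set i := (normalizer (zpowers q : Set G)).index with hi
    have h11 : i * j = 532 := by nlinarith
    have h12 : i % 11 = 1 := h8
    have hi532 : i ∣ 532 := ⟨j, h11.symm⟩
    have h13 : i = 133 := by
      have hile : i ≤ 532 := Nat.le_of_dvd (by norm_num) hi532
      have hchk : ∀ i < 533, i ∣ 532 → i % 11 = 1 → i ≠ 1 → i = 133 := by decide +kernel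
      exact hchk i (by omega) hi532 h12 h10
    have hj4 : j = 4 := by rw [h13] at h11; omega
    rw [hj4, card_normalizer_eq] at hj
    have hr := ratio_dvd hqo
    have hev : 2 ∣ Nat.card (centralizer ({q} : Set G)) := by
      have hr' : ratio q ≤ 10 := Nat.le_of_dvd (by norm_num) hr
      have hr0 : 0 < ratio q := Nat.pos_of_ne_zero (by
        intro h0
        rw [h0, mul_zero] at hj
        omega)
      interval_cases ratio q <;> omega
    obtain ⟨a, ha1, ha2⟩ := exists_of_prime_dvd_centralizer Nat.prime_two hev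
    rw [hqo, cent_inv_card E h16 ha1] at ha2
    omega
  · -- `m = 133`
    exfalso
    rw [h] at hm
    have hp : Nat.Prime 19 := by norm_num
    have : Fact (Nat.Prime 19) := ⟨hp⟩
    obtain ⟨⟨q, hqC⟩, hqo⟩ := exists_prime_orderOf_dvd_card' (G := C) 19 (by rw [hm]; norm_num)
    rw [Subgroup.orderOf_mk] at hqo
    have hle : C ≤ normalizer (zpowers q : Set G) := by
      apply le_normalizer_of_count hp hqC hqo
      · rw [hm]; norm_num
      · intro d hd1 hd2
        rw [hm] at hd1
        have h6 : d ≤ 70 := by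
          have := Nat.le_of_dvd (by norm_num) hd1
          omega
        interval_cases d <;> omega
    have h7 := Subgroup.card_dvd_of_le hle
    rw [hm] at h7
    have h8 := index_normalizer_modEq hqo (by rw [hG]; norm_num : ¬ 19 ^ 2 ∣ Nat.card G)
    have h9 := Subgroup.index_mul_card (normalizer (zpowers q : Set G))
    rw [hG] at h9
    have h10 := index_normalizer_ne_one (q := q) (by
      rintro rfl; rw [orderOf_one] at hqo; omega) (by rw [hG, hqo]; norm_num)
    obtain ⟨j, hj⟩ := h7
    rw [hj] at h9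
    set i := (normalizer (zpowers q : Set G)).index with hi
    have h11 : i * j = 132 := by nlinarith
    have h12 : i % 19 = 1 := h8
    have hi532 : i ∣ 132 := ⟨j, h11.symm⟩
    have hile : i ≤ 132 := Nat.le_of_dvd (by norm_num) hi532
    have hchk : ∀ i < 133, i ∣ 132 → i % 19 = 1 → i = 1 := by decide +kernel
    exact h10 (hchk i (by omega) hi532 h12)
  · -- `m = 1463`
    exfalso
    rw [h] at hnm
    have h6 : n5 = 6 := by omega
    have hcore := (normalizer (zpowers w : Set G)).normalCore_normal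
    rcases hcore.eq_bot_or_eq_top with h7 | h7
    · have h8 : (normalizer (zpowers w : Set G)).normalCore.index ∣
          (normalizer (zpowers w : Set G)).index.factorial := by
        rw [normalCore_eq_ker, index_ker, index_eq_card, ← Nat.card_perm]
        exact card_subgroup_dvd_card _
      rw [h7, Subgroup.index_bot, hG, ← hn5, h6] at h8
      exact absurd h8 (by decide)
    · have h8 : normalizer (zpowers w : Set G) = ⊤ := by
        rw [eq_top_iff, ← h7]
        exact normalCore_le _
      rw [← Subgroup.index_eq_one, ← hn5] at h8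
      omega

/-- The centraliser of any element of order `5` has order `30`. -/
theorem card_cent_five (E : Emb G) (h16 : ¬ 16 ∣ Nat.card G) (hG : Nat.card G = 175560) {w : G}
    (hw : orderOf w = 5) : Nat.card (centralizer ({w} : Set G)) = 30 := by
  have : Fact (Nat.Prime 5) := ⟨by norm_num⟩
  rw [card_centralizer_eq hw (orderOf_w0 E) (by rw [hG]; norm_num), card_cent_w0 E h16 hG]

end

end Cfsg.Agent.JC
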