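import Cfsg.Agent.JU.Five
import Cfsg.Agent.JU.A5fact

/-! The structure of the centraliser of an element of order `5`. -/

set_option autoImplicit false

namespace Cfsg.Agent.JC

open Cfsg Subgroup Cfsg.Agent.H60

theorem thirty {K : Type*} [Group K] [Finite K] (hK : Nat.card K = 30) {w : K}
    (hw : orderOf w = 5) (hc : ∀ x : K, x * w = w * x)
    (hnc : ∀ v x : K, orderOf v = 3 → x * x = 1 → x ≠ 1 → v * x ≠ x * v) :
    (∀ i j : K, i * i = 1 → i ≠ 1 → j * j = 1 → j ≠ 1 → (i * j) ^ 3 = 1) ∧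
    (∃ v : K, orderOf v = 3 ∧ (∀ x : K, x ^ 3 = 1 → x = 1 ∨ x = v ∨ x = v⁻¹) ∧
      ∀ i : K, i * i = 1 → i ≠ 1 → i * v * i⁻¹ = v⁻¹) := by
  have : Fact (Nat.Prime 3) := ⟨by norm_num⟩
  obtain ⟨v, hv⟩ := exists_prime_orderOf_dvd_card' (G := K) 3 (by rw [hK]; norm_num)
  have hv3 : v ^ 3 = 1 := by rw [← hv]; exact pow_orderOf_eq_one v
  have hw5 : w ^ 5 = 1 := by rw [← hw]; exact pow_orderOf_eq_one w
  have hcomm : Commute v w := hc v
  have hq : orderOf (v * w) = 15 := by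
    rw [hcomm.orderOf_mul_eq_mul_orderOf_of_coprime (by rw [hv, hw]; norm_num), hv, hw]
  set H := zpowers (v * w) with hH
  have hidx : H.index = 2 := by
    have h1 := H.index_mul_card
    rw [hK, hH, Nat.card_zpowers, hq] at h1
    rw [hH]
    omega
  have hmem : ∀ x ∈ H, ∃ m : ℤ, x = v ^ m * w ^ m := by
    rintro x ⟨m, rfl⟩
    exact ⟨m, hcomm.mul_zpow m⟩
  have hinvH : ∀ i : K, i * i = 1 → i ≠ 1 → i ∉ H := by
    intro i h1 h2 h3
    obtain ⟨m, hm⟩ := h3
    have hm' : (v * w) ^ m = i := hm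
    have h4 : i ^ 15 = 1 := by
      rw [← hm', ← zpow_natCast, ← zpow_mul, mul_comm, zpow_mul, zpow_natCast]
      rw [← hq, pow_orderOf_eq_one, one_zpow]
    apply h2
    have h5 : i ^ 15 = (i * i) ^ 7 * i := by
      rw [← pow_two, ← pow_mul, ← pow_succ]
    rw [h5, h1, one_pow, one_mul] at h4
    exact h4
  have hw0 : ∀ m : ℤ, w ^ m = 1 ↔ (5 : ℤ) ∣ m := by
    intro m
    rw [← orderOf_dvd_iff_zpow_eq_one, hw]
    rfl
  have hthree : ∀ x : K, x ^ 3 = 1 → x = 1 ∨ x = v ∨ x = v⁻¹ := by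
    intro x hx
    have h1 : x * x ∈ H := mul_self_mem_of_index_two hidx x
    have h2 : x ∈ H := by
      have h3 : x = (x * x)⁻¹ * x ^ 3 := by
        rw [pow_succ, pow_two, inv_mul_cancel_left]
      rw [h3, hx, mul_one]
      exact inv_mem h1
    obtain ⟨m, hm⟩ := hmem x h2
    have h3 : (v ^ m * w ^ m) ^ 3 = v ^ (3 * m) * w ^ (3 * m) := by
      rw [← hcomm.mul_zpow, ← hcomm.mul_zpow, ← zpow_natCast, ← zpow_mul]
      congr 1
      push_cast
      ring
    have h4 : v ^ (3 * m) = 1 := by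
      rw [zpow_mul]
      have : v ^ (3 : ℤ) = 1 := by exact_mod_cast hv3
      rw [this, one_zpow]
    rw [hm, h3, h4, one_mul, hw0] at hx
    have h5 : (5 : ℤ) ∣ m := by omega
    rw [(hw0 m).mpr h5, mul_one] at hm
    have h6 : v ^ m = v ^ (m % 3) := by
      conv_lhs => rw [← Int.emod_add_mul_ediv m 3, zpow_add, zpow_mul]
      have : v ^ (3 : ℤ) = 1 := by exact_mod_cast hv3
      rw [this, one_zpow, mul_one]
    have h7 : m % 3 = 0 ∨ m % 3 = 1 ∨ m % 3 = 2 := by omega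
    rw [hm, h6]
    rcases h7 with h7 | h7 | h7
    · left; rw [h7, zpow_zero]
    · right; left; rw [h7, zpow_one]
    · right; right
      rw [h7]
      apply eq_inv_of_mul_eq_one_left
      have h8 : v ^ (2 : ℤ) * v = v ^ 3 := by
        rw [pow_succ]
        congr 1
        exact zpow_natCast v 2
      rw [h8, hv3]
  have hinv : ∀ i : K, i * i = 1 → i ≠ 1 → i * v * i⁻¹ = v⁻¹ := by
    intro i h1 h2
    have h3 : (i * v * i⁻¹) ^ 3 = 1 := by
      rw [conj_pow, hv3, mul_one, mul_inv_cancel]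
    rcases hthree _ h3 with h4 | h4 | h4
    · exfalso
      rw [mul_inv_eq_one] at h4
      have h5 : v = 1 := by
        have : i * v = i * 1 := by rw [h4, mul_one]
        exact mul_left_cancel this
      rw [h5, orderOf_one] at hv
      omega
    · exfalso
      apply hnc v i hv h1 h2
      rw [mul_inv_eq_iff_eq_mul] at h4
      exact h4.symm
    · exact h4
  refine ⟨?_, v, hv, hthree, hinv⟩
  intro i j h1 h2 h3 h4
  have h5 : i * j ∈ H := by
    rw [mul_mem_iff_of_index_two hidx]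
    exact ⟨fun h => absurd h (hinvH i h1 h2), fun h => absurd h (hinvH j h3 h4)⟩
  obtain ⟨m, hm⟩ := hmem _ h5
  have hi : i⁻¹ = i := inv_eq_of_mul_eq_one_left h1
  have hj : j⁻¹ = j := inv_eq_of_mul_eq_one_left h3
  have h6 : i * (i * j) * i⁻¹ = (i * j)⁻¹ := by
    rw [← mul_assoc, h1, one_mul, mul_inv_rev, hj, hi]
  have h7 : i * (v ^ m * w ^ m) * i⁻¹ = (v⁻¹) ^ m * w ^ m := by
    have h8 : i * w * i⁻¹ = w := by rw [hc i]; group
    calc i * (v ^ m * w ^ m) * i⁻¹ = (i * v ^ m * i⁻¹) * (i * w ^ m * i⁻¹) := by group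
      _ = (i * v * i⁻¹) ^ m * (i * w * i⁻¹) ^ m := by rw [conj_zpow, conj_zpow]
      _ = _ := by rw [hinv i h1 h2, h8]
  rw [hm, h7, mul_inv_rev, inv_zpow] at h6
  have h8 : (w ^ m)⁻¹ * (v ^ m)⁻¹ = (v ^ m)⁻¹ * (w ^ m)⁻¹ := by
    exact ((hcomm.zpow_zpow m m).inv_inv.symm).eq
  rw [h8] at h6
  have h9 := mul_left_cancel h6
  have h10 : w ^ (m + m) = 1 := by
    rw [zpow_add]
    nth_rewrite 1 [h9]
    group
  rw [hw0] at h10
  have h11 : (5 : ℤ) ∣ m := by omega
  rw [hm, (hw0 m).mpr h11, mul_one, ← zpow_natCast, ← zpow_mul, mul_comm, zpow_mul, zpow_natCast,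
    hv3, one_zpow]

section

variable {G : Type*} [Group G] [Finite G] [IsSimpleGroup G]

theorem ca_sq_fst (p : CA) (h : p.2 = 1) : p * p = 1 := by
  have h1 : ∀ x : M2, x * x = 1 := by decide +kernel
  exact Prod.ext (h1 p.1) (by change p.2 * p.2 = 1; rw [h, mul_one])

theorem no_three (E : Emb G) (h16 : ¬ 16 ∣ Nat.card G) {w v x : G} (hw : orderOf w = 5)
    (hv : orderOf v = 3) (hx : x * x = 1) (hx1 : x ≠ 1) (hvw : v * w = w * v)
    (hxw : x * w = w * x) : v * x ≠ x * v := by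
  intro hvx
  obtain ⟨E', rfl⟩ := exists_emb_inv E h16 hx hx1
  obtain ⟨p, rfl⟩ := E'.cent v hvx
  obtain ⟨q, rfl⟩ := E'.cent w hxw.symm
  have h1 : p ^ 3 = 1 := by
    apply E'.inj
    rw [map_pow, map_one, ← hv, pow_orderOf_eq_one]
  have h2 : q ^ 5 = 1 := by
    apply E'.inj
    rw [map_pow, map_one, orderOf_dvd_iff_pow_eq_one.mp (dvd_of_eq hw)]
  have h3 : p ≠ 1 := by
    rintro rfl
    rw [map_one, orderOf_one] at hv
    omega
  have h4 : q ≠ 1 := by
    rintro rfl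
    rw [map_one, orderOf_one] at hw
    omega
  have h5 : p * q = q * p := by
    apply E'.inj
    rw [map_mul, map_mul, hvw]
  refine a5_35 p.2 ?_ ?_ q.2 ?_ ?_ (congrArg Prod.snd h5)
  · intro h
    apply h3
    have h6 := ca_sq_fst p h
    rw [pow_succ, pow_two, h6, one_mul] at h1
    exact h1
  · have := congrArg Prod.snd h1
    rw [pow_succ, pow_two] at this
    exact this
  · intro h
    apply h4
    have h6 := ca_sq_fst q h
    rw [pow5_eq, h6, one_mul, h6, one_mul] at h2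
    exact h2
  · have := congrArg Prod.snd h2
    rw [pow5_eq] at this
    exact this

/-- The centraliser of an element of order five. -/
theorem five_UV (E : Emb G) (h16 : ¬ 16 ∣ Nat.card G) (hG : Nat.card G = 175560) {w : G}
    (hw : orderOf w = 5) :
    (∀ i j : G, i * w = w * i → j * w = w * j → i * i = 1 → i ≠ 1 → j * j = 1 → j ≠ 1 →
      (i * j) ^ 3 = 1) ∧
    (∃ v : G, orderOf v = 3 ∧ v * w = w * v ∧
      (∀ x : G, x * w = w * x → x ^ 3 = 1 → x = 1 ∨ x = v ∨ x = v⁻¹) ∧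
      ∀ i : G, i * w = w * i → i * i = 1 → i ≠ 1 → i * v * i⁻¹ = v⁻¹) := by
  have hC := card_cent_five E h16 hG hw
  have hmem : ∀ x : G, x ∈ centralizer ({w} : Set G) ↔ x * w = w * x :=
    fun x => mem_centralizer_singleton_iff
  have hcw : ∀ x : centralizer ({w} : Set G), (x : G) * w = w * x := fun x => (hmem x).mp x.2
  obtain ⟨hU, ⟨v, hvC⟩, hv, hthree, hinv⟩ := thirty hC
    (w := ⟨w, (hmem w).mpr rfl⟩) (by rw [Subgroup.orderOf_mk, hw])
    (fun x => Subtype.ext (hcw x))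
    (fun v x hv hx hx1 h => no_three E h16 hw (by rw [Subgroup.orderOf_coe, hv])
      (congrArg Subtype.val hx) (fun h => hx1 (Subtype.ext h)) (hcw v) (hcw x)
      (congrArg Subtype.val h))
  refine ⟨?_, v, ?_, ?_, ?_, ?_⟩
  · intro i j h1 h2 h3 h4 h5 h6
    have := hU ⟨i, (hmem i).mpr h1⟩ ⟨j, (hmem j).mpr h2⟩ (Subtype.ext h3)
      (fun h => h4 (congrArg Subtype.val h)) (Subtype.ext h5) (fun h => h6 (congrArg Subtype.val h))
    exact congrArg Subtype.val this
  · rwa [Subgroup.orderOf_mk] at hv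
  · exact (hmem v).mp hvC
  · intro x h1 h2
    rcases hthree ⟨x, (hmem x).mpr h1⟩ (Subtype.ext h2) with h | h | h
    · left; exact congrArg Subtype.val h
    · right; left; exact congrArg Subtype.val h
    · right; right; exact congrArg Subtype.val h
  · intro i h1 h2 h3
    exact congrArg Subtype.val (hinv ⟨i, (hmem i).mpr h1⟩ (Subtype.ext h2)
      (fun h => h3 (congrArg Subtype.val h)))

end

end Cfsg.Agent.JC
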