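import Cfsg.Agent.JC.Fusion

/-! Fusion without simplicity, and conjugates of embeddings. -/

set_option autoImplicit false

namespace Cfsg.Agent.JC

open Cfsg Subgroup

section

variable {G : Type*} [Group G]

/-- The conjugate of an embedding. -/
def Emb.conj (E : Emb G) (g : G) : Emb G where
  iota := (MulAut.conj g).toMonoidHom.comp E.iota
  inj := (MulAut.conj g).injective.comp E.inj
  cent := by
    intro x hx
    change x * (g * E.iota zz * g⁻¹) = g * E.iota zz * g⁻¹ * x at hx
    obtain ⟨y, hy⟩ := E.cent (g⁻¹ * x * g) (by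
      have h2 : g⁻¹ * (x * (g * E.iota zz * g⁻¹)) * g = g⁻¹ * (g * E.iota zz * g⁻¹ * x) * g := by
        rw [hx]
      calc g⁻¹ * x * g * E.iota zz = g⁻¹ * (x * (g * E.iota zz * g⁻¹)) * g := by group
        _ = g⁻¹ * (g * E.iota zz * g⁻¹ * x) * g := h2
        _ = E.iota zz * (g⁻¹ * x * g) := by group)
    refine ⟨y, ?_⟩
    change g * E.iota y * g⁻¹ = x
    rw [hy]; group

theorem Emb.conj_iota (E : Emb G) (g : G) (y : CA) : (E.conj g).iota y = g * E.iota y * g⁻¹ := rfl

end

section

variable {G : Type*} [Group G] [Finite G]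

omit [Finite G] in
/-- The conjugating element commutes with the central involution. -/
theorem orbit_elt (E : Emb G) {y : E8} (h1 : y ≠ 1) (h2 : y ≠ zE) :
    ∃ c : G, c * E.iota zz = E.iota zz * c ∧
      c * E.iota (kap (y.1, e1, 1)) * c⁻¹ = E.iota (kap y) := by
  obtain ⟨j, hj⟩ := kap_orbit y h1 h2
  refine ⟨(E.iota m3) ^ (j : ℕ), ?_, ?_⟩
  · rw [← map_pow, ← map_mul, ← map_mul, zz_center]
  · rw [mul_inv_eq_iff_eq_mul, ← map_pow, ← map_mul, ← map_mul]
    congr 1
    exact hj.symm

/-- All the involutions of `S` are conjugate to `t`, if some other one is. -/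
theorem conj_S' (E : Emb G) (h16 : ¬ 16 ∣ Nat.card G)
    (hex : ∃ y : E8, y ≠ zE ∧ IsConj (E.iota zz) (E.iota (kap y))) (y : E8) (hy : y ≠ 1) :
    IsConj (E.iota zz) (E.iota (kap y)) := by
  classical
  have hself : IsConj (E.iota zz) (E.iota (kap zE)) := by
    rw [kap_zE]
  have hone : ¬ IsConj (E.iota zz) (E.iota (kap 1)) := by
    rw [map_one, map_one]
    intro h
    obtain ⟨g, hg⟩ := isConj_iff.mp h
    apply E.zz_ne'
    rw [mul_inv_eq_one] at hg
    exact mul_left_cancel (hg.trans (mul_one g).symm)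
  have hodd := odd_class E h16
  by_cases hA : IsConj (E.iota zz) (E.iota (kap (1, e1, 1)))
  · by_cases hB : IsConj (E.iota zz) (E.iota (kap (e1, e1, 1)))
    · by_cases hz : y = zE
      · rw [hz]; exact hself
      · have h1 := conj_orbit E hy hz
        rcases fst_cases y.1 with h2 | h2
        · rw [h2] at h1; exact hA.trans h1
        · rw [h2] at h1; exact hB.trans h1
    · exfalso
      have hiff : ∀ y : E8, IsConj (E.iota zz) (E.iota (kap y)) ↔
          (y = zE ∨ (y ≠ 1 ∧ y ≠ zE ∧ y.1 = 1)) := by
        intro y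
        by_cases hy1 : y = 1
        · rw [hy1]
          constructor
          · intro h; exact absurd h hone
          · rintro (h | ⟨h, -⟩)
            · exact absurd h (by decide)
            · exact absurd rfl h
        by_cases hz : y = zE
        · rw [hz]
          exact ⟨fun _ => Or.inl rfl, fun _ => hself⟩
        have h1 := conj_orbit E hy1 hz
        rcases fst_cases y.1 with h2 | h2
        · rw [h2] at h1
          exact ⟨fun _ => Or.inr ⟨hy1, hz, h2⟩, fun _ => hA.trans h1⟩
        · rw [h2] at h1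
          constructor
          · intro h
            exact absurd (h.trans h1.symm) hB
          · rintro (h | ⟨-, -, h⟩)
            · exact absurd h hz
            · rw [h2] at h
              exact absurd h (by decide)
      rw [Nat.card_congr (Equiv.subtypeEquivRight hiff), Nat.card_eq_fintype_card] at hodd
      have h4 := card_caseA
      have h5 : Odd 4 := by
        rw [← h4]
        convert hodd
      exact absurd h5 (by decide)
  · by_cases hB : IsConj (E.iota zz) (E.iota (kap (e1, e1, 1)))
    · exfalso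
      have hiff : ∀ y : E8, IsConj (E.iota zz) (E.iota (kap y)) ↔
          (y = zE ∨ (y ≠ 1 ∧ y ≠ zE ∧ y.1 ≠ 1)) := by
        intro y
        by_cases hy1 : y = 1
        · rw [hy1]
          constructor
          · intro h; exact absurd h hone
          · rintro (h | ⟨h, -⟩)
            · exact absurd h (by decide)
            · exact absurd rfl h
        by_cases hz : y = zE
        · rw [hz]
          exact ⟨fun _ => Or.inl rfl, fun _ => hself⟩
        have h1 := conj_orbit E hy1 hz
        rcases fst_cases y.1 with h2 | h2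
        · rw [h2] at h1
          constructor
          · intro h
            exact absurd (h.trans h1.symm) hA
          · rintro (h | ⟨-, -, h⟩)
            · exact absurd h hz
            · exact absurd h2 h
        · rw [h2] at h1
          exact ⟨fun _ => Or.inr ⟨hy1, hz, by rw [h2]; decide⟩, fun _ => hB.trans h1⟩
      rw [Nat.card_congr (Equiv.subtypeEquivRight hiff), Nat.card_eq_fintype_card] at hodd
      have h4 := card_caseB
      have h5 : Odd 4 := by
        rw [← h4]
        convert hodd
      exact absurd h5 (by decide)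
    · exfalso
      obtain ⟨y, hz, hy⟩ := hex
      have hy1 : y ≠ 1 := by
        rintro rfl
        exact hone hy
      have h1 := conj_orbit E hy1 hz
      rcases fst_cases y.1 with h2 | h2
      · rw [h2] at h1; exact hA (hy.trans h1.symm)
      · rw [h2] at h1; exact hB (hy.trans h1.symm)

/-- A `2`-subgroup is conjugate into `S`. -/
theorem conj_into_S (E : Emb G) (h16 : ¬ 16 ∣ Nat.card G) {Q : Subgroup G} (hQ : IsPGroup 2 Q) :
    ∃ g : G, ∀ x ∈ Q, g * x * g⁻¹ ∈ E.S := by
  have : Fact (Nat.Prime 2) := ⟨Nat.prime_two⟩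
  obtain ⟨P, hP⟩ := hQ.exists_le_sylow
  obtain ⟨g, hg⟩ := MulAction.exists_smul_eq G P (sylS E h16)
  refine ⟨g, fun x hx => ?_⟩
  rw [← sylS_coe E h16, ← hg, Sylow.coe_subgroup_smul,
    Subgroup.mem_pointwise_smul_iff_inv_smul_mem, ← map_inv, MulAut.smul_def, MulAut.conj_apply]
  have : g⁻¹ * (g * x * g⁻¹) * g⁻¹⁻¹ = x := by group
  rw [this]
  exact hP hx

/-- Elements of `2`-power order are involutions. -/
theorem two_sq (E : Emb G) (h16 : ¬ 16 ∣ Nat.card G) {x : G} {n : ℕ} (hx : x ^ 2 ^ n = 1) :
    x * x = 1 := by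
  have : Fact (Nat.Prime 2) := ⟨Nat.prime_two⟩
  have h1 : IsPGroup 2 (zpowers x) := by
    obtain ⟨k, -, hk⟩ := (Nat.dvd_prime_pow Nat.prime_two).mp (orderOf_dvd_of_pow_eq_one hx)
    apply IsPGroup.of_card (n := k)
    rw [Nat.card_zpowers, hk]
  obtain ⟨g, hg⟩ := conj_into_S E h16 h1
  have h2 := E.S_sq (hg x (mem_zpowers x))
  have h3 : g * x * g⁻¹ * (g * x * g⁻¹) = g * (x * x) * g⁻¹ := by group
  rw [h3, mul_inv_eq_one] at h2
  exact mul_left_cancel (h2.trans (mul_one g).symm)

/-- All the involutions are conjugate to `t`, if some other one commuting with `t` is. -/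
theorem conj_inv' (E : Emb G) (h16 : ¬ 16 ∣ Nat.card G)
    (hex : ∃ y : E8, y ≠ zE ∧ IsConj (E.iota zz) (E.iota (kap y))) {x : G}
    (hx : x * x = 1) (hx1 : x ≠ 1) : IsConj (E.iota zz) x := by
  have : Fact (Nat.Prime 2) := ⟨Nat.prime_two⟩
  have ho : orderOf x = 2 := orderOf_eq_prime (by rw [pow_two]; exact hx) hx1
  have h1 : IsPGroup 2 (zpowers x) := by
    apply IsPGroup.of_card (n := 1)
    rw [Nat.card_zpowers, ho, pow_one]
  obtain ⟨g, hg⟩ := conj_into_S E h16 h1
  obtain ⟨y, hy⟩ := hg x (mem_zpowers x)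
  have hy2 : E.iota (kap y) = g * x * g⁻¹ := hy
  have hy1 : y ≠ 1 := by
    rintro rfl
    rw [map_one, map_one] at hy2
    apply hx1
    have : g * x = g * 1 := by
      rw [mul_one]
      exact (mul_inv_eq_one.mp hy2.symm)
    exact mul_left_cancel this
  have h3 := conj_S' E h16 hex y hy1
  rw [hy2] at h3
  refine h3.trans ?_
  rw [isConj_iff]
  exact ⟨g⁻¹, by group⟩

/-- Every involution is the centre of an embedding. -/
theorem exists_emb_inv [IsSimpleGroup G] (E : Emb G) (h16 : ¬ 16 ∣ Nat.card G) {x : G}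
    (hx : x * x = 1) (hx1 : x ≠ 1) : ∃ E' : Emb G, E'.iota zz = x := by
  obtain ⟨g, hg⟩ := isConj_iff.mp (conj_inv E h16 hx hx1)
  exact ⟨E.conj g, hg⟩

end

end Cfsg.Agent.JC
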