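import Cfsg.Agent.JU.Five2
import Cfsg.Agent.JU.Arrow
import Cfsg.Agent.JU.Apply

/-! Generators satisfying the relations. -/

set_option autoImplicit false

namespace Cfsg.Agent.JC

open Cfsg Subgroup Cfsg.Agent.TC Cfsg.Agent.H60

structure Tri (a b c : A5) : Prop where
  aa : a * a = 1
  bb : b * b = 1
  cc : c * c = 1
  a1 : a ≠ 1
  b1 : b ≠ 1
  c1 : c ≠ 1
  nac : a ≠ c
  ac : a * c = c * a
  ab : (a * b) ^ 5 = 1
  bc : (b * c) ^ 3 = 1
  abc : (a * b * c) ^ 5 = 1
  k : ∃ k : ℕ, a * b = c5 ^ k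
  inv : a * c5 * a⁻¹ = c5⁻¹

def q0 : A5 := ⟨tp ![0, 4, 3, 2, 1] ![0, 4, 3, 2, 1] (by decide) (by decide),
  by rw [Equiv.Perm.mem_alternatingGroup]; decide⟩
def q1 : A5 := ⟨tp ![4, 3, 2, 1, 0] ![4, 3, 2, 1, 0] (by decide) (by decide),
  by rw [Equiv.Perm.mem_alternatingGroup]; decide⟩
def q2 : A5 := ⟨tp ![0, 3, 4, 1, 2] ![0, 3, 4, 1, 2] (by decide) (by decide),
  by rw [Equiv.Perm.mem_alternatingGroup]; decide⟩
def q1' : A5 := ⟨tp ![3, 2, 1, 0, 4] ![3, 2, 1, 0, 4] (by decide) (by decide),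
  by rw [Equiv.Perm.mem_alternatingGroup]; decide⟩
def qd : A5 := ⟨tp ![0, 1, 4, 2, 3] ![0, 1, 3, 4, 2] (by decide) (by decide),
  by rw [Equiv.Perm.mem_alternatingGroup]; decide⟩

theorem tri1 : Tri q0 q1 q2 where
  aa := by decide +kernel
  bb := by decide +kernel
  cc := by decide +kernel
  a1 := by decide +kernel
  b1 := by decide +kernel
  c1 := by decide +kernel
  nac := by decide +kernel
  ac := by decide +kernel
  ab := by decide +kernel
  bc := by decide +kernel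
  abc := by decide +kernel
  k := ⟨1, by decide +kernel⟩
  inv := by decide +kernel

theorem tri2 : Tri q0 q1' (q0 * q2) where
  aa := by decide +kernel
  bb := by decide +kernel
  cc := by decide +kernel
  a1 := by decide +kernel
  b1 := by decide +kernel
  c1 := by decide +kernel
  nac := by decide +kernel
  ac := by decide +kernel
  ab := by decide +kernel
  bc := by decide +kernel
  abc := by decide +kernel
  k := ⟨2, by decide +kernel⟩
  inv := by decide +kernel

theorem qd1 : qd * q0 * qd⁻¹ = q2 := by decide +kernel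
theorem qd2 : qd * q2 * qd⁻¹ = q0 * q2 := by decide +kernel
theorem qd3 : qd * (q0 * q2) * qd⁻¹ = q0 := by decide +kernel

theorem rev2_pow {Γ : Type*} [Group Γ] {x y : Γ} (hx : x * x = 1) (hy : y * y = 1) {n : ℕ}
    (h : (x * y) ^ n = 1) : (y * x) ^ n = 1 := by
  have h1 : y * x = (x * y)⁻¹ := by
    rw [mul_inv_rev, inv_eq_of_mul_eq_one_left hx, inv_eq_of_mul_eq_one_left hy]
  rw [h1, inv_pow, h, inv_one]

theorem rev3 {Γ : Type*} [Group Γ] {x y z : Γ} (hx : x * x = 1) (hy : y * y = 1)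
    (hz : z * z = 1) : z * y * x = (x * y * z)⁻¹ := by
  rw [mul_inv_rev, mul_inv_rev, inv_eq_of_mul_eq_one_left hx, inv_eq_of_mul_eq_one_left hy,
    inv_eq_of_mul_eq_one_left hz, mul_assoc]

theorem rev3_pow {Γ : Type*} [Group Γ] {x y z : Γ} (hx : x * x = 1) (hy : y * y = 1)
    (hz : z * z = 1) {n : ℕ} (h : (x * y * z) ^ n = 1) : (z * y * x) ^ n = 1 := by
  rw [rev3 hx hy hz, inv_pow, h, inv_one]

theorem comm_sq {Γ : Type*} [Group Γ] {x y : Γ} (hx : x * x = 1) (hy : y * y = 1)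
    (h : x * y = y * x) : (x * y) ^ 2 = 1 := by
  rw [pow_two, mul_assoc, ← mul_assoc y, ← h, mul_assoc, hy, mul_one, hx]

theorem ca_pow (p : CA) (n : ℕ) : p ^ n = (p.1 ^ n, p.2 ^ n) := rfl

theorem m2_sq : ∀ x : M2, x * x = 1 := by decide +kernel
theorem m2_three : ∀ x y : M2, (x * y) ^ 3 = 1 → x = y := by decide +kernel
theorem m2_zz : ∀ x y z : M2, (x * y * z) ^ 5 = e1 → (x * y) ^ 5 = 1 → (y * z) ^ 3 = 1 →
    x = e1 := by decide +kernel

theorem snd_ne {p : CA} (h1 : p ≠ 1) (h2 : p ≠ zz) : p.2 ≠ 1 := by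
  intro h
  rcases fst_cases p.1 with h3 | h3
  · exact h1 (Prod.ext h3 h)
  · exact h2 (Prod.ext h3 h)

theorem ca_key {p q r : CA} (hp : p * p = 1) (hq : q * q = 1) (hr : r * r = 1) (hp1 : p ≠ 1)
    (hpz : p ≠ zz) (hq1 : q ≠ 1) (hqz : q ≠ zz) (hpq : p ≠ q) (hpqz : q ≠ p * zz)
    (hc : p * q = q * p) (hpr : p ≠ r) (h3 : (p * r) ^ 3 = 1) :
    (q * r) ^ 5 = ((q.1 * r.1) ^ 5, 1) ∧ (p * r * q) ^ 5 = ((p.1 * r.1 * q.1) ^ 5, 1) ∧
      p.1 = r.1 := by
  have e1' : p.1 = r.1 := by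
    apply m2_three
    exact congrArg Prod.fst h3
  have h5 := a5_key (α := p.2) (β := q.2) (γ := r.2) (snd_ne hp1 hpz) (congrArg Prod.snd hp)
    (snd_ne hq1 hqz) (congrArg Prod.snd hq) (by
      intro h
      rcases fst_cases p.1 with h6 | h6
      · rcases fst_cases q.1 with h7 | h7
        · exact hpq (Prod.ext (h6.trans h7.symm) h)
        · apply hpqz
          refine Prod.ext ?_ ?_
          · change q.1 = p.1 * e1
            rw [h6, h7]; rfl
          · change q.2 = p.2 * 1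
            rw [h, mul_one]
      · rcases fst_cases q.1 with h7 | h7
        · apply hpqz
          refine Prod.ext ?_ ?_
          · change q.1 = p.1 * e1
            rw [h6, h7]; decide
          · change q.2 = p.2 * 1
            rw [h, mul_one]
        · exact hpq (Prod.ext (h6.trans h7.symm) h))
    (congrArg Prod.snd hc) (congrArg Prod.snd hr)
    (fun h => hpr (Prod.ext e1' h.symm)) (congrArg Prod.snd h3)
  refine ⟨?_, ?_, e1'⟩
  · rw [ca_pow]
    exact Prod.ext rfl h5.1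
  · rw [ca_pow]
    exact Prod.ext rfl h5.2

section

variable {G : Type*} [Group G]

/-- Facts on `s = v t v⁻¹`. -/
theorem ts_eq {t v : G} (hv : v ^ 3 = 1) (ht : t * t = 1) (htv : t * v * t⁻¹ = v⁻¹) :
    t * (v * t * v⁻¹) = v := by
  have h1 : t⁻¹ = t := inv_eq_of_mul_eq_one_left ht
  rw [h1] at htv
  have h2 : t * (v * t * v⁻¹) = t * v * t * v⁻¹ := by group
  rw [h2, htv]
  have h3 : v⁻¹ * v⁻¹ = (v * v)⁻¹ := by rw [mul_inv_rev]
  rw [h3]
  apply inv_eq_of_mul_eq_one_left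
  rw [← hv, pow_succ', pow_two]

theorem s_sq {t v : G} (ht : t * t = 1) : (v * t * v⁻¹) * (v * t * v⁻¹) = 1 := by
  have h2 : (v * t * v⁻¹) * (v * t * v⁻¹) = v * (t * t) * v⁻¹ := by group
  rw [h2, ht, mul_one, mul_inv_cancel]

theorem s_comm {t v x : G} (h1 : x * v = v * x) (h2 : x * t = t * x) :
    x * (v * t * v⁻¹) = (v * t * v⁻¹) * x := by
  have h3 : Commute x v := h1
  have h4 : Commute x t := h2
  exact ((h3.mul_right h4).mul_right h3.inv_right)

theorem s_nc {t v : G} (hv : v ^ 3 = 1) (hv1 : v ≠ 1) (ht : t * t = 1)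
    (htv : t * v * t⁻¹ = v⁻¹) : t * (v * t * v⁻¹) ≠ (v * t * v⁻¹) * t := by
  intro h
  have h1 := comm_sq ht (s_sq ht) h
  rw [ts_eq hv ht htv] at h1
  apply hv1
  rw [pow_succ, h1, one_mul] at hv
  exact hv

end

section

variable {G : Type*} [Group G] [Finite G] [IsSimpleGroup G]

theorem caseI (E : Emb G) (h16 : ¬ 16 ∣ Nat.card G) (hG : Nat.card G = 175560) {v : G}
    (hv : v ^ 3 = 1) (hv1 : v ≠ 1) (hvw : v * E.iota (1, c5) = E.iota (1, c5) * v)
    (htv : E.iota zz * v * (E.iota zz)⁻¹ = v⁻¹) {a b c : A5} (T : Tri a b c)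
    (hc : E.iota (e1, a) * v = v * E.iota (e1, a))
    (harr : Arr (E.iota (e1, a)) (E.iota (e1, c))) :
    ∃ r0 r1 r2 r3 : G, PJ r0 r1 r2 r3 ∧ (r0 * r1 * r2) ^ 5 ≠ 1 := by
  have : Fact (Nat.Prime 5) := ⟨by norm_num⟩
  set t := E.iota zz with ht
  have htt : t * t = 1 := E.zz_sq'
  have ht1 : t ≠ 1 := E.zz_ne'
  set s := v * t * v⁻¹ with hs
  have hss : s * s = 1 := s_sq htt
  have hts : t * s = v := ts_eq hv htt htv
  have hnc : t * s ≠ s * t := s_nc hv hv1 htt htv
  have hs1 : s ≠ 1 := by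
    intro h
    apply hnc
    rw [h, mul_one, one_mul]
  set r0 := E.iota (e1, a) with hr0
  set r1 := E.iota (e1, b) with hr1
  set r2 := E.iota (e1, c) with hr2
  have e11 : e1 * e1 = 1 := m2_sq e1
  have h00 : r0 * r0 = 1 := by
    rw [hr0, ← map_mul, show ((e1, a) : CA) * (e1, a) = 1 from Prod.ext e11 T.aa, map_one]
  have h11 : r1 * r1 = 1 := by
    rw [hr1, ← map_mul, show ((e1, b) : CA) * (e1, b) = 1 from Prod.ext e11 T.bb, map_one]
  have h22 : r2 * r2 = 1 := by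
    rw [hr2, ← map_mul, show ((e1, c) : CA) * (e1, c) = 1 from Prod.ext e11 T.cc, map_one]
  have hinj : ∀ p q : CA, p ≠ q → E.iota p ≠ E.iota q := fun p q h h' => h (E.inj h')
  have hr01 : r0 ≠ 1 := by
    rw [← map_one E.iota]
    exact hinj _ _ (fun h => T.a1 (congrArg Prod.snd h))
  have hr21 : r2 ≠ 1 := by
    rw [← map_one E.iota]
    exact hinj _ _ (fun h => T.c1 (congrArg Prod.snd h))
  have hr0t : r0 ≠ t := hinj _ _ (fun h => T.a1 (congrArg Prod.snd h))
  have hr2t : r2 ≠ t := hinj _ _ (fun h => T.c1 (congrArg Prod.snd h))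
  have hr02 : r0 ≠ r2 := hinj _ _ (fun h => T.nac (congrArg Prod.snd h))
  have hc0t : r0 * t = t * r0 := by rw [hr0, ht, ← map_mul, ← map_mul, zz_center]
  have hc1t : r1 * t = t * r1 := by rw [hr1, ht, ← map_mul, ← map_mul, zz_center]
  have hc2t : r2 * t = t * r2 := by rw [hr2, ht, ← map_mul, ← map_mul, zz_center]
  have hc02 : r0 * r2 = r2 * r0 := by
    rw [hr0, hr2, ← map_mul, ← map_mul]
    congr 1
    exact Prod.ext rfl T.ac
  have hc0s : r0 * s = s * r0 := s_comm hc hc0t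
  have hws : E.iota (1, c5) * s = s * E.iota (1, c5) :=
    s_comm hvw.symm (by rw [ht, ← map_mul, ← map_mul, zz_center])
  have hc1s : r1 * s = s * r1 := by
    obtain ⟨k, hk⟩ := T.k
    have h1 : r1 = r0 * E.iota (1, c5) ^ k := by
      have h2 : r0 * r1 = E.iota (1, c5) ^ k := by
        rw [hr0, hr1, ← map_mul, ← map_pow]
        congr 1
        exact Prod.ext (by change e1 * e1 = 1 ^ k; rw [e11, one_pow]) hk
      rw [← h2, ← mul_assoc, h00, one_mul]
    rw [h1]
    have h3 : Commute r0 s := hc0s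
    have h4 : Commute (E.iota (1, c5)) s := hws
    exact (h3.mul_left (h4.pow_left k)).eq
  -- the centraliser of `r0`
  obtain ⟨E', hE'⟩ := exists_emb_inv E h16 h00 hr01
  obtain ⟨p, hp⟩ := E'.cent t (by rw [hE']; exact hc0t.symm)
  obtain ⟨q, hq⟩ := E'.cent r2 (by rw [hE']; exact hc02.symm)
  obtain ⟨r, hr⟩ := E'.cent s (by rw [hE']; exact hc0s.symm)
  have hq1 : q.1 = 1 := by
    rw [← arr_iff E', hE', hq]; exact harr
  have hp1 : p.1 = 1 := by
    rw [← arr_iff E', hE', hp, tournament E h16 h00 hr01 htt ht1 hr0t hc0t, ht, hr0, arr_iff]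
    exact (by decide : ¬ e1 = 1)
  have hkey := ca_key (p := p) (q := q) (r := r)
    (E'.inj (by rw [map_mul, hp, htt, map_one])) (E'.inj (by rw [map_mul, hq, h22, map_one]))
    (E'.inj (by rw [map_mul, hr, hss, map_one]))
    (fun h => ht1 (by rw [← hp, h, map_one]))
    (fun h => hr0t (by rw [← hp, h, hE']))
    (fun h => hr21 (by rw [← hq, h, map_one]))
    (fun h => hr02 (by rw [← hq, h, hE']))
    (fun h => hr2t (by rw [← hq, ← h, hp]))
    (fun h => by
      have h1 : r2 = t * r0 := by rw [← hq, h, map_mul, hp, hE']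
      rw [ht, hr0, hr2, ← map_mul] at h1
      exact T.nac (congrArg Prod.snd ((E.inj h1).trans
        (Prod.ext rfl (one_mul a) : zz * (e1, a) = (e1 * e1, a)))).symm)
    (E'.inj (by rw [map_mul, map_mul, hp, hq, hc2t]))
    (fun h => hnc (by rw [← hp, ← hr, h]))
    (E'.inj (by rw [map_pow, map_mul, hp, hr, hts, hv, map_one]))
  obtain ⟨k1, k2, k3⟩ := hkey
  have hrs1 : r.1 = 1 := by rw [← k3, hp1]
  have h2s : (r2 * s) ^ 5 = 1 := by
    rw [← hq, ← hr, ← map_mul, ← map_pow, k1, hq1, hrs1, mul_one, one_pow]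
    exact map_one _
  have hr2s : r2 ≠ s := by
    intro h
    apply hnc
    rw [← h, hc2t]
  have h012 : (r0 * r1 * r2) ^ 5 = t := by
    rw [hr0, hr1, hr2, ht, ← map_mul, ← map_mul, ← map_pow]
    congr 1
    exact Prod.ext (by change (e1 * e1 * e1) ^ 5 = e1; decide) T.abc
  have H3' : H3 s r2 r1 := by
    refine ⟨hss, h22, h11, rev2_pow h22 hss h2s, ?_, comm_sq hss h11 hc1s.symm⟩
    rw [hr2, hr1, ← map_mul, ← map_pow,
      show (((e1, c) : CA) * (e1, b)) ^ 3 = 1 from Prod.ext (by change (e1 * e1) ^ 3 = 1; decide)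
        (rev2_pow T.bb T.cc T.bc), map_one]
  have hz : (s * r2 * r1) ^ 5 = 1 := by
    by_contra hz1
    set z := (s * r2 * r1) ^ 5 with hzdef
    have hzz := H3'.zz
    rw [← hzdef] at hzz
    have hzs : z * s = s * z := H3'.za
    have hz2 : z * r2 = r2 * z := H3'.zb
    have hz1' : z * r1 = r1 * z := H3'.zc
    obtain ⟨E2, hE2⟩ := exists_emb_inv E h16 hzz hz1
    obtain ⟨x3, hx3⟩ := E2.cent s (by rw [hE2, hzs])
    obtain ⟨x2, hx2⟩ := E2.cent r2 (by rw [hE2, hz2])
    obtain ⟨x1, hx1⟩ := E2.cent r1 (by rw [hE2, hz1'])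
    have f1 : (x3 * x2 * x1) ^ 5 = zz := by
      apply E2.inj
      rw [map_pow, map_mul, map_mul, hx3, hx2, hx1, hE2]
    have f2 : (x3 * x2) ^ 5 = 1 := by
      apply E2.inj
      rw [map_pow, map_mul, hx3, hx2, H3'.ab, map_one]
    have f3 : (x2 * x1) ^ 3 = 1 := by
      apply E2.inj
      rw [map_pow, map_mul, hx2, hx1, H3'.bc, map_one]
    have f4 : x3.1 = e1 := m2_zz x3.1 x2.1 x1.1 (congrArg Prod.fst f1) (congrArg Prod.fst f2)
      (congrArg Prod.fst f3)
    have f5 : ¬ Arr z s := by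
      rw [← hE2, ← hx3, arr_iff, f4]
      decide
    have hsz : s ≠ z := by
      intro h
      have g1 : r2 * s = s * r2 := by
        conv_lhs => rw [h]
        conv_rhs => rw [h]
        exact hz2.symm
      have g2 := comm_sq h22 hss g1
      have g3 : r2 * s = 1 := by
        have g4 : (r2 * s) ^ 5 = ((r2 * s) ^ 2) ^ 2 * (r2 * s) := by
          rw [← pow_mul, ← pow_succ]
        rw [h2s, g2, one_pow, one_mul] at g4
        exact g4.symm
      apply hr2s
      rw [eq_inv_of_mul_eq_one_left g3, inv_eq_of_mul_eq_one_left hss]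
    have f6 : Arr s z := (tournament E h16 hss hs1 hzz hz1 hsz hzs.symm).mpr f5
    have ho : orderOf (r2 * s) = 5 := by
      apply orderOf_eq_prime h2s
      intro g3
      apply hr2s
      rw [eq_inv_of_mul_eq_one_left g3, inv_eq_of_mul_eq_one_left hss]
    have cc1 : Commute r0 (r2 * s) := (show Commute r0 r2 from hc02).mul_right hc0s
    have cc2 : Commute z (r2 * s) := (show Commute z r2 from hz2).mul_right hzs
    have f7 := (five_UV E h16 hG ho).1 r0 z cc1.eq cc2.eq h00 hr01 hzz hz1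
    have hr0s : r0 ≠ s := by
      intro h
      apply hnc
      rw [← h, hc0t]
    have f8 : Arr s r0 := by
      obtain ⟨E3, hE3⟩ := exists_emb_inv E h16 hss hs1
      obtain ⟨y1, hy1⟩ := E3.cent z (by rw [hE3, hzs])
      obtain ⟨y2, hy2⟩ := E3.cent r0 (by rw [hE3, hc0s])
      rw [← hE3, ← hy1, arr_iff] at f6
      rw [← hE3, ← hy2, arr_iff, ← f6]
      apply m2_three
      have f9 : (y2 * y1) ^ 3 = 1 := by
        apply E3.inj
        rw [map_pow, map_mul, hy1, hy2, f7, map_one]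
      exact congrArg Prod.fst f9
    have f10 : Arr r0 s := by
      rw [← hE', ← hr, arr_iff]
      exact hrs1
    exact (tournament E h16 h00 hr01 hss hs1 hr0s hc0s).mp f10 f8
  refine ⟨r0, r1, r2, s, ⟨⟨h00, h11, h22, ?_, ?_, comm_sq h00 h22 hc02⟩, hss, h2s,
    comm_sq h00 hss hc0s, comm_sq h11 hss hc1s, rev3_pow hss h22 h11 hz, ?_⟩, ?_⟩
  · rw [hr0, hr1, ← map_mul, ← map_pow,
      show (((e1, a) : CA) * (e1, b)) ^ 5 = 1 from Prod.ext (by change (e1 * e1) ^ 5 = 1; decide)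
        T.ab, map_one]
  · rw [hr1, hr2, ← map_mul, ← map_pow,
      show (((e1, b) : CA) * (e1, c)) ^ 3 = 1 from Prod.ext (by change (e1 * e1) ^ 3 = 1; decide)
        T.bc, map_one]
  · rw [h012, hts, hv]
  · rw [h012]; exact ht1

theorem caseII (E : Emb G) (h16 : ¬ 16 ∣ Nat.card G) (hG : Nat.card G = 175560) {v : G}
    (hv : v ^ 3 = 1) (hv1 : v ≠ 1) (hvw : v * E.iota (1, c5) = E.iota (1, c5) * v)
    (htv : E.iota zz * v * (E.iota zz)⁻¹ = v⁻¹) {a b c : A5} (T : Tri a b c)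
    (hc : E.iota (1, a) * v = v * E.iota (1, a))
    (harr : Arr (E.iota (1, c)) (E.iota (1, a))) :
    ∃ r0 r1 r2 r3 : G, PJ r0 r1 r2 r3 ∧ (r0 * r1 * r2) ^ 5 ≠ 1 := by
  have : Fact (Nat.Prime 5) := ⟨by norm_num⟩
  set t := E.iota zz with ht
  have htt : t * t = 1 := E.zz_sq'
  have ht1 : t ≠ 1 := E.zz_ne'
  set s := v * t * v⁻¹ with hs
  have hss : s * s = 1 := s_sq htt
  have hts : t * s = v := ts_eq hv htt htv
  have hnc : t * s ≠ s * t := s_nc hv hv1 htt htv
  have hs1 : s ≠ 1 := by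
    intro h
    apply hnc
    rw [h, mul_one, one_mul]
  set r0 := E.iota (1, a) with hr0
  set r1 := E.iota (1, b) with hr1
  set r2 := E.iota (1, c) with hr2
  have e11 : (1 : M2) * 1 = 1 := mul_one 1
  have h00 : r0 * r0 = 1 := by
    rw [hr0, ← map_mul, show ((1, a) : CA) * (1, a) = 1 from Prod.ext e11 T.aa, map_one]
  have h11 : r1 * r1 = 1 := by
    rw [hr1, ← map_mul, show ((1, b) : CA) * (1, b) = 1 from Prod.ext e11 T.bb, map_one]
  have h22 : r2 * r2 = 1 := by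
    rw [hr2, ← map_mul, show ((1, c) : CA) * (1, c) = 1 from Prod.ext e11 T.cc, map_one]
  have hinj : ∀ p q : CA, p ≠ q → E.iota p ≠ E.iota q := fun p q h h' => h (E.inj h')
  have hr01 : r0 ≠ 1 := by
    rw [← map_one E.iota]
    exact hinj _ _ (fun h => T.a1 (congrArg Prod.snd h))
  have hr21 : r2 ≠ 1 := by
    rw [← map_one E.iota]
    exact hinj _ _ (fun h => T.c1 (congrArg Prod.snd h))
  have hr0t : r0 ≠ t := hinj _ _ (fun h => T.a1 (congrArg Prod.snd h))
  have hr2t : r2 ≠ t := hinj _ _ (fun h => T.c1 (congrArg Prod.snd h))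
  have hr02 : r0 ≠ r2 := hinj _ _ (fun h => T.nac (congrArg Prod.snd h))
  have hc0t : r0 * t = t * r0 := by rw [hr0, ht, ← map_mul, ← map_mul, zz_center]
  have hc1t : r1 * t = t * r1 := by rw [hr1, ht, ← map_mul, ← map_mul, zz_center]
  have hc2t : r2 * t = t * r2 := by rw [hr2, ht, ← map_mul, ← map_mul, zz_center]
  have hc02 : r0 * r2 = r2 * r0 := by
    rw [hr0, hr2, ← map_mul, ← map_mul]
    congr 1
    exact Prod.ext rfl T.ac
  have hc0s : r0 * s = s * r0 := s_comm hc hc0t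
  have hws : E.iota (1, c5) * s = s * E.iota (1, c5) :=
    s_comm hvw.symm (by rw [ht, ← map_mul, ← map_mul, zz_center])
  have hc1s : r1 * s = s * r1 := by
    obtain ⟨k, hk⟩ := T.k
    have h1 : r1 = r0 * E.iota (1, c5) ^ k := by
      have h2 : r0 * r1 = E.iota (1, c5) ^ k := by
        rw [hr0, hr1, ← map_mul, ← map_pow]
        congr 1
        exact Prod.ext (by change (1 : M2) * 1 = 1 ^ k; rw [e11, one_pow]) hk
      rw [← h2, ← mul_assoc, h00, one_mul]
    rw [h1]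
    have h3 : Commute r0 s := hc0s
    have h4 : Commute (E.iota (1, c5)) s := hws
    exact (h3.mul_left (h4.pow_left k)).eq
  -- the centraliser of `r0`
  obtain ⟨E', hE'⟩ := exists_emb_inv E h16 h00 hr01
  obtain ⟨p, hp⟩ := E'.cent t (by rw [hE']; exact hc0t.symm)
  obtain ⟨q, hq⟩ := E'.cent r2 (by rw [hE']; exact hc02.symm)
  obtain ⟨r, hr⟩ := E'.cent s (by rw [hE']; exact hc0s.symm)
  have hq1 : q.1 = e1 := by
    have h1 := (tournament E h16 h22 hr21 h00 hr01 hr02.symm hc02.symm).mp harr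
    rw [← hE', ← hq, arr_iff] at h1
    exact (fst_cases q.1).resolve_left h1
  have hp1 : p.1 = e1 := by
    have h1 : Arr t r0 := by
      rw [ht, hr0, arr_iff]
    have h2 := (tournament E h16 htt ht1 h00 hr01 hr0t.symm hc0t.symm).mp h1
    rw [← hE', ← hp, arr_iff] at h2
    exact (fst_cases p.1).resolve_left h2
  have hkey := ca_key (p := p) (q := q) (r := r)
    (E'.inj (by rw [map_mul, hp, htt, map_one])) (E'.inj (by rw [map_mul, hq, h22, map_one]))
    (E'.inj (by rw [map_mul, hr, hss, map_one]))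
    (fun h => ht1 (by rw [← hp, h, map_one]))
    (fun h => hr0t (by rw [← hp, h, hE']))
    (fun h => hr21 (by rw [← hq, h, map_one]))
    (fun h => hr02 (by rw [← hq, h, hE']))
    (fun h => hr2t (by rw [← hq, ← h, hp]))
    (fun h => by
      have h1 : r2 = t * r0 := by rw [← hq, h, map_mul, hp, hE']
      rw [ht, hr0, hr2, ← map_mul] at h1
      exact T.nac (congrArg Prod.snd ((E.inj h1).trans
        (Prod.ext rfl (one_mul a) : zz * (1, a) = (e1 * 1, a)))).symm)
    (E'.inj (by rw [map_mul, map_mul, hp, hq, hc2t]))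
    (fun h => hnc (by rw [← hp, ← hr, h]))
    (E'.inj (by rw [map_pow, map_mul, hp, hr, hts, hv, map_one]))
  obtain ⟨k1, k2, k3⟩ := hkey
  have hrs1 : r.1 = e1 := by rw [← k3, hp1]
  have h2s : (r2 * s) ^ 5 = 1 := by
    rw [← hq, ← hr, ← map_mul, ← map_pow, k1, hq1, hrs1]
    have : (((e1 * e1) ^ 5, 1) : CA) = 1 := Prod.ext (by decide) rfl
    rw [this, map_one]
  have hts2 : (t * s * r2) ^ 5 = r0 := by
    rw [← hp, ← hr, ← hq, ← map_mul, ← map_mul, ← map_pow, k2, hp1, hrs1, hq1, ← hE']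
    have : (((e1 * e1 * e1) ^ 5, 1) : CA) = zz := Prod.ext (by decide) rfl
    rw [this]
  have hr2s : r2 ≠ s := by
    intro h
    apply hnc
    rw [← h, hc2t]
  have hs2 : (s * r2) ^ 5 = 1 := rev2_pow h22 hss h2s
  have ho : orderOf (s * r2) = 5 := by
    apply orderOf_eq_prime hs2
    intro g3
    apply hr2s
    rw [eq_inv_of_mul_eq_one_right g3, inv_eq_of_mul_eq_one_left hss]
  have h21 : (r2 * r1) ^ 3 = 1 := by
    rw [hr2, hr1, ← map_mul, ← map_pow,
      show (((1, c) : CA) * (1, b)) ^ 3 = 1 from Prod.ext (by change ((1 : M2) * 1) ^ 3 = 1; decide)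
        (rev2_pow T.bb T.cc T.bc), map_one]
  have H3' : H3 s r2 r1 := ⟨hss, h22, h11, hs2, h21, comm_sq hss h11 hc1s.symm⟩
  have cc1 : Commute r0 (s * r2) := (show Commute r0 s from hc0s).mul_right hc02
  have hz1 : (s * r2 * r1) ^ 5 ≠ 1 := by
    intro hz1
    have g1 := eleven_cell (t := t) (s := s) (a := r2) (b := r1) htt hss h22 h11
      (by rw [hts, hv]) hs2 h21 (comm_sq htt h22 hc2t.symm) (comm_sq htt h11 hc1t.symm)
      (comm_sq hss h11 hc1s.symm) hz1
    rw [hts2] at g1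
    have g2 : r0 * (s * r2) ∈ Subgroup.closure {s, r2, r1} := by
      refine mul_mem g1 (mul_mem (Subgroup.subset_closure ?_) (Subgroup.subset_closure ?_))
      · left; rfl
      · right; left; rfl
    have hne : ∀ j : ℕ, ¬ 5 ∣ j → (s * r2) ^ j ≠ 1 := by
      intro j hj h
      rw [← orderOf_dvd_iff_pow_eq_one, ho] at h
      exact hj h
    have g00 : r0 ^ 2 = 1 := by rw [pow_two, h00]
    rcases H3'.hemi hz1 g2 with g3 | g3 | g3
    · rw [cc1.mul_pow, g00, one_mul] at g3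
      exact hne 2 (by norm_num) g3
    · have g4 : ((r0 * (s * r2)) ^ 3) ^ 2 = 1 := by rw [g3, one_pow]
      rw [← pow_mul, cc1.mul_pow, show 3 * 2 = 2 * 3 by norm_num, pow_mul, g00, one_pow,
        one_mul] at g4
      exact hne _ (by norm_num) g4
    · rw [cc1.mul_pow, hs2, mul_one, show 5 = 2 * 2 + 1 by norm_num, pow_succ, pow_mul, g00,
        one_pow, one_mul] at g3
      exact hr01 g3
  refine ⟨s, r2, r1, r0, ⟨H3', h00, ?_, comm_sq hss h00 hc0s.symm, comm_sq h22 h00 hc02.symm,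
    ?_, ?_⟩, hz1⟩
  · rw [hr0, hr1, ← map_mul, ← map_pow,
      show (((1, b) : CA) * (1, a)) ^ 5 = 1 from Prod.ext (by change ((1 : M2) * 1) ^ 5 = 1; decide)
        (rev2_pow T.aa T.bb T.ab), map_one]
  · rw [hr0, hr1, hr2, ← map_mul, ← map_mul, ← map_pow,
      show (((1, c) : CA) * (1, b) * (1, a)) ^ 5 = 1 from
        Prod.ext (by change ((1 : M2) * 1 * 1) ^ 5 = 1; decide)
        (rev3_pow T.aa T.bb T.cc T.abc), map_one]
  · have hzz := H3'.zz
    have hzs := H3'.za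
    have hz2 := H3'.zb
    have cc2 : Commute ((s * r2 * r1) ^ 5) (s * r2) :=
      (show Commute ((s * r2 * r1) ^ 5) s from hzs).mul_right hz2
    exact (five_UV E h16 hG ho).1 _ r0 cc2.eq cc1.eq hzz hz1 h00 hr01

/-- The orientation of a four-group. -/
theorem orient (E : Emb G) (h16 : ¬ 16 ∣ Nat.card G) (x : M2) :
    (Arr (E.iota (x, q0)) (E.iota (x, q2)) ∨ Arr (E.iota (x, q0)) (E.iota (x, q0 * q2))) ∧
    (Arr (E.iota (x, q2)) (E.iota (x, q0)) ∨ Arr (E.iota (x, q0 * q2)) (E.iota (x, q0))) := by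
  have hcj : ∀ α β : A5, Arr (E.iota (x, qd * α * qd⁻¹)) (E.iota (x, qd * β * qd⁻¹)) ↔
      Arr (E.iota (x, α)) (E.iota (x, β)) := by
    intro α β
    have h1 : ∀ α : A5, E.iota (x, qd * α * qd⁻¹) =
        E.iota (1, qd) * E.iota (x, α) * (E.iota (1, qd))⁻¹ := by
      intro α
      rw [← map_inv, ← map_mul, ← map_mul]
      congr 1
      exact Prod.ext (by change x = 1 * x * 1⁻¹; group) rfl
    rw [h1, h1, arr_conj_iff]
  have h1 := hcj q0 q2
  have h2 := hcj q2 (q0 * q2)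
  have h3 := hcj (q0 * q2) q0
  rw [qd1, qd2] at h1
  rw [qd2, qd3] at h2
  rw [qd3, qd1] at h3
  have hsq : ∀ α : A5, α * α = 1 → E.iota (x, α) * E.iota (x, α) = 1 := by
    intro α hα
    rw [← map_mul, show ((x, α) : CA) * (x, α) = 1 from Prod.ext (m2_sq x) hα, map_one]
  have hne : ∀ α β : A5, α ≠ β → E.iota (x, α) ≠ E.iota (x, β) :=
    fun α β h h' => h (congrArg Prod.snd (E.inj h'))
  have hne1 : ∀ α : A5, α ≠ 1 → E.iota (x, α) ≠ 1 := by
    intro α h h'
    rw [← map_one E.iota] at h'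
    exact h (congrArg Prod.snd (E.inj h'))
  have hcm : ∀ α β : A5, α * β = β * α →
      E.iota (x, α) * E.iota (x, β) = E.iota (x, β) * E.iota (x, α) := by
    intro α β h
    rw [← map_mul, ← map_mul]
    congr 1
    exact Prod.ext rfl h
  have t1 := tournament E h16 (hsq q0 tri1.aa) (hne1 q0 tri1.a1) (hsq q2 tri1.cc)
    (hne1 q2 tri1.c1) (hne _ _ tri1.nac) (hcm _ _ tri1.ac)
  have t2 := tournament E h16 (hsq q0 tri2.aa) (hne1 q0 tri2.a1) (hsq _ tri2.cc)
    (hne1 _ tri2.c1) (hne _ _ tri2.nac) (hcm _ _ tri2.ac)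
  tauto

theorem exists_PJ (E : Emb G) (h16 : ¬ 16 ∣ Nat.card G) (hG : Nat.card G = 175560) :
    ∃ r0 r1 r2 r3 : G, PJ r0 r1 r2 r3 ∧ (r0 * r1 * r2) ^ 5 ≠ 1 := by
  obtain ⟨-, v, hv, hvw, hthree, hinv⟩ := five_UV E h16 hG (orderOf_w0 E)
  have hv3 : v ^ 3 = 1 := by rw [← hv]; exact pow_orderOf_eq_one v
  have hv1 : v ≠ 1 := by
    rintro rfl
    rw [orderOf_one] at hv
    omega
  have htw : E.iota zz * E.iota (1, c5) = E.iota (1, c5) * E.iota zz := by
    rw [← map_mul, ← map_mul, zz_center]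
  have htv := hinv (E.iota zz) htw E.zz_sq' E.zz_ne'
  -- the action of `q0`
  set x := E.iota (1, q0) with hx
  have hxw : x * E.iota (1, c5) * x⁻¹ = (E.iota (1, c5))⁻¹ := by
    rw [hx, ← map_inv, ← map_inv, ← map_mul, ← map_mul]
    congr 1
    exact Prod.ext (by change (1 : M2) * 1 * 1⁻¹ = 1⁻¹; group) tri1.inv
  have hxx : x * x = 1 := by
    rw [hx, ← map_mul, show ((1, q0) : CA) * (1, q0) = 1 from Prod.ext (mul_one 1) tri1.aa,
      map_one]
  have h1 : x * v * x⁻¹ * E.iota (1, c5) = E.iota (1, c5) * (x * v * x⁻¹) := by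
    have h2 : x⁻¹ * E.iota (1, c5) * x = (E.iota (1, c5))⁻¹ := by
      rw [inv_eq_of_mul_eq_one_left hxx] at hxw ⊢
      exact hxw
    have h3 : Commute v (x⁻¹ * E.iota (1, c5) * x) := by
      rw [h2]
      exact (show Commute v (E.iota (1, c5)) from hvw).inv_right
    calc x * v * x⁻¹ * E.iota (1, c5) = x * (v * (x⁻¹ * E.iota (1, c5) * x)) * x⁻¹ := by group
      _ = x * (x⁻¹ * E.iota (1, c5) * x * v) * x⁻¹ := by rw [h3.eq]
      _ = E.iota (1, c5) * (x * v * x⁻¹) := by group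
  have h2 : (x * v * x⁻¹) ^ 3 = 1 := by rw [conj_pow, hv3, mul_one, mul_inv_cancel]
  rcases hthree _ h1 h2 with h3 | h3 | h3
  · exfalso
    apply hv1
    rw [mul_inv_eq_one] at h3
    exact mul_left_cancel (h3.trans (mul_one x).symm)
  · -- case II
    rw [mul_inv_eq_iff_eq_mul] at h3
    rcases (orient E h16 1).2 with h4 | h4
    · exact caseII E h16 hG hv3 hv1 hvw htv tri1 h3 h4
    · exact caseII E h16 hG hv3 hv1 hvw htv tri2 h3 h4
  · -- case I
    have h5 : E.iota (e1, q0) * v = v * E.iota (e1, q0) := by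
      have h6 : E.iota (e1, q0) = x * E.iota zz := by
        rw [hx, ← map_mul]
        congr 1
      rw [h6]
      rw [mul_inv_eq_iff_eq_mul] at h3 htv
      have h7 : x * v⁻¹ = v * x := by
        have h8 : v * (x * v) * v⁻¹ = v * (v⁻¹ * x) * v⁻¹ := by rw [h3]
        calc x * v⁻¹ = v * (v⁻¹ * x) * v⁻¹ := by group
          _ = v * (x * v) * v⁻¹ := h8.symm
          _ = v * x := by group
      rw [mul_assoc, htv, ← mul_assoc, h7, mul_assoc]
    rcases (orient E h16 e1).1 with h4 | h4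
    · exact caseI E h16 hG hv3 hv1 hvw htv tri1 h5 h4
    · exact caseI E h16 hG hv3 hv1 hvw htv tri2 h5 h4

end

end Cfsg.Agent.JC
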