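import Cfsg.Agent.JU.Whole

/-! Uniqueness of Janko's first group. -/

set_option autoImplicit false

namespace Cfsg.Agent.JC

open Cfsg Subgroup Cfsg.Agent.TC Cfsg.Agent.H60

theorem pj_prod {G H : Type*} [Group G] [Group H] {a b c d : G} {a' b' c' d' : H}
    (h : PJ a b c d) (h' : PJ a' b' c' d') : PJ (a, a') (b, b') (c, c') (d, d') where
  h3 :=
    { aa := Prod.ext h.h3.aa h'.h3.aa
      bb := Prod.ext h.h3.bb h'.h3.bb
      cc := Prod.ext h.h3.cc h'.h3.cc
      ab := Prod.ext h.h3.ab h'.h3.ab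
      bc := Prod.ext h.h3.bc h'.h3.bc
      ac := Prod.ext h.h3.ac h'.h3.ac }
  dd := Prod.ext h.dd h'.dd
  cd := Prod.ext h.cd h'.cd
  ad := Prod.ext h.ad h'.ad
  bd := Prod.ext h.bd h'.bd
  bcd := Prod.ext h.bcd h'.bcd
  tt := Prod.ext h.tt h'.tt

/-- Four elements generating, and their images. -/
theorem bij_of_gen {Γ G : Type*} [Group Γ] [Group G] (f : Γ →* G) {a b c d : Γ}
    (h : PJ a b c d) (htop : closure {f a, f b, f c, f d} = (⊤ : Subgroup G))
    (hG : Nat.card G = 175560) :
    Function.Bijective (f.comp (closure {a, b, c, d}).subtype) := by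
  obtain ⟨h1, h2⟩ := h.card
  set D := closure {a, b, c, d} with hD
  have hsurj : Function.Surjective (f.comp D.subtype) := by
    rw [← MonoidHom.range_eq_top, MonoidHom.range_comp, Subgroup.range_subtype, hD,
      MonoidHom.map_closure, ← htop]
    congr 1
    rw [Set.image_insert_eq, Set.image_insert_eq, Set.image_insert_eq, Set.image_singleton]
  have := Finite.of_surjective _ hsurj
  have h3 : Nat.card G ≤ Nat.card D := Nat.card_le_card_of_surjective _ hsurj
  have h4 : Nat.card D = Nat.card G := le_antisymm (by rw [hG]; exact h2) h3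
  exact (Nat.bijective_iff_surjective_and_card _).mpr ⟨hsurj, h4⟩

/-- Uniqueness. -/
theorem iso_of_emb {G H : Type*} [Group G] [Finite G] [IsSimpleGroup G] [Group H] [Finite H]
    [IsSimpleGroup H] (E : Emb G) (F : Emb H) (h16 : ¬ 16 ∣ Nat.card G)
    (h16' : ¬ 16 ∣ Nat.card H) : Nonempty (G ≃* H) := by
  have hG := card_eq E h16
  have hH := card_eq F h16'
  obtain ⟨a, b, c, d, h, hz⟩ := exists_PJ E h16 hG
  obtain ⟨a', b', c', d', h', hz'⟩ := exists_PJ F h16' hH
  have h1 := pj_top E h16 h hz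
  have h2 := pj_top F h16' h' hz'
  have b1 := bij_of_gen (MonoidHom.fst G H) (pj_prod h h') h1 hG
  have b2 := bij_of_gen (MonoidHom.snd G H) (pj_prod h h') h2 hH
  exact ⟨(MulEquiv.ofBijective _ b1).symm.trans (MulEquiv.ofBijective _ b2)⟩

end Cfsg.Agent.JC
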