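import Cfsg.Agent.JU.Gens
import Cfsg.Agent.JC.MkDat

/-! The generators generate the whole group. -/

set_option autoImplicit false

namespace Cfsg.Agent.JC

open Cfsg Subgroup Cfsg.Agent.TC Cfsg.Agent.H60

theorem conj_of_odd {Γ : Type*} [Group Γ] {x y : Γ} (hx : x * x = 1) (hy : y * y = 1) {k : ℕ}
    (h : (x * y) ^ (2 * k + 1) = 1) : IsConj x y := by
  rw [isConj_iff]
  refine ⟨(x * y) ^ k, ?_⟩
  have hxi : x⁻¹ = x := inv_eq_of_mul_eq_one_left hx
  have hyi : y⁻¹ = y := inv_eq_of_mul_eq_one_left hy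
  have h1 : x * ((x * y) ^ k)⁻¹ * x⁻¹ = (x * y) ^ k := by
    rw [← inv_pow, ← conj_pow]
    congr 1
    rw [mul_inv_rev, hxi, hyi]
    rw [mul_assoc, mul_assoc, hx, mul_one]
  have h2 : x * ((x * y) ^ k)⁻¹ = (x * y) ^ k * x := by
    rw [mul_inv_eq_iff_eq_mul] at h1
    exact h1
  rw [mul_assoc, h2, ← mul_assoc, ← pow_add, ← two_mul]
  have h3 : (x * y) ^ (2 * k) = (x * y)⁻¹ := eq_inv_of_mul_eq_one_left (by rw [← pow_succ, h])
  rw [h3, mul_inv_rev, hxi, hyi, mul_assoc, hx, mul_one]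

theorem v1_sq : v1 * v1 = 1 := by decide +kernel
theorem v1_ne : v1 ≠ 1 := by decide +kernel

section

variable {G : Type*} [Group G] [Finite G]

/-- An odd normal subgroup of `C2 × A5` is trivial. -/
theorem odd_normal_CA (N : Subgroup CA) [hN : N.Normal] (hodd : ∀ y ∈ N, y * y = 1 → y = 1) :
    N = ⊥ := by
  have h1 : (N.map (MonoidHom.snd M2 A5)).Normal := hN.map _ (fun a => ⟨(1, a), rfl⟩)
  rcases h1.eq_bot_or_eq_top with h2 | h2
  · rw [eq_bot_iff]
    intro y hy
    have h3 : y.2 ∈ N.map (MonoidHom.snd M2 A5) := ⟨y, hy, rfl⟩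
    rw [h2, mem_bot] at h3
    rw [mem_bot]
    exact hodd y hy (ca_sq_fst y h3)
  · exfalso
    have h3 : v1 ∈ N.map (MonoidHom.snd M2 A5) := by rw [h2]; exact mem_top _
    obtain ⟨y, hy, hy2⟩ := h3
    have hy3 : y.2 = v1 := hy2
    have h4 := hodd y hy (Prod.ext (m2_sq y.1) (by change y.2 * y.2 = 1; rw [hy3, v1_sq]))
    apply v1_ne
    rw [← hy3, h4]
    rfl

/-- Simplicity. -/
theorem simple_of_gen (E : Emb G) (h16 : ¬ 16 ∣ Nat.card G)
    (hex : ∃ y : E8, y ≠ zE ∧ IsConj (E.iota zz) (E.iota (kap y))) {S : Set G}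
    (hS : closure S = ⊤) (hS2 : ∀ x ∈ S, x * x = 1) : IsSimpleGroup G := by
  have : Fact (Nat.Prime 2) := ⟨Nat.prime_two⟩
  have hnt : Nontrivial G := ⟨⟨E.iota zz, 1, E.zz_ne'⟩⟩
  refine ⟨fun N hN => ?_⟩
  by_cases h2 : 2 ∣ Nat.card N
  · right
    obtain ⟨⟨x, hxN⟩, hx⟩ := exists_prime_orderOf_dvd_card' (G := N) 2 h2
    rw [Subgroup.orderOf_mk] at hx
    have hx1 : x ≠ 1 := by
      rintro rfl
      rw [orderOf_one] at hx
      omega
    have hxx : x * x = 1 := by rw [← pow_two, ← hx]; exact pow_orderOf_eq_one x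
    have h3 := conj_inv' E h16 hex hxx hx1
    rw [eq_top_iff, ← hS, closure_le]
    intro s hs
    by_cases hs1 : s = 1
    · rw [hs1]; exact one_mem _
    · have h4 := conj_inv' E h16 hex (hS2 s hs) hs1
      obtain ⟨g, hg⟩ := isConj_iff.mp (h3.symm.trans h4)
      rw [← hg]
      exact hN.conj_mem x hxN g
  · left
    have hodd : ∀ n ∈ N, n * n = 1 → n = 1 := by
      intro n hn h3
      by_contra h4
      apply h2
      have h5 : orderOf (⟨n, hn⟩ : N) = 2 := by
        rw [Subgroup.orderOf_mk]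
        exact orderOf_eq_prime (by rw [pow_two, h3]) h4
      rw [← h5]
      exact orderOf_dvd_natCard _
    -- fixed points
    have hfix : ∀ x : G, x * x = 1 → x ≠ 1 → ∀ n ∈ N, n * x = x * n → n = 1 := by
      intro x hx hx1 n hn hnx
      obtain ⟨g, hg⟩ := isConj_iff.mp (conj_inv' E h16 hex hx hx1)
      have hg' : (E.conj g).iota zz = x := hg
      obtain ⟨y, hy⟩ := (E.conj g).cent n (by rw [hg', hnx])
      have h3 : (N.comap (E.conj g).iota).Normal := hN.comap _
      have h4 := odd_normal_CA (N.comap (E.conj g).iota) (by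
        intro y' hy' hy2
        apply (E.conj g).inj
        rw [map_one]
        apply hodd _ hy'
        rw [← map_mul, hy2, map_one])
      have h5 : y ∈ N.comap (E.conj g).iota := by
        rw [mem_comap, hy]; exact hn
      rw [h4, mem_bot] at h5
      rw [← hy, h5, map_one]
    have hinv : ∀ x : G, x * x = 1 → x ≠ 1 → ∀ n ∈ N, x * n * x⁻¹ = n⁻¹ := by
      intro x hx hx1 n hn
      let f : N → N := fun n => n⁻¹ * ⟨x * n * x⁻¹, hN.conj_mem n n.2 x⟩
      have hf : Function.Injective f := by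
        intro k m hkm
        have h3 : (k : G)⁻¹ * (x * k * x⁻¹) = (m : G)⁻¹ * (x * m * x⁻¹) :=
          congrArg Subtype.val hkm
        have h4 : (m : G) * (k : G)⁻¹ = x * (m * (k : G)⁻¹) * x⁻¹ := by
          calc (m : G) * (k : G)⁻¹ = m * ((k : G)⁻¹ * (x * k * x⁻¹)) * (x * k * x⁻¹)⁻¹ := by group
            _ = m * ((m : G)⁻¹ * (x * m * x⁻¹)) * (x * k * x⁻¹)⁻¹ := by rw [h3]
            _ = x * (m * (k : G)⁻¹) * x⁻¹ := by group
        have h5 := hfix x hx hx1 ((m : G) * (k : G)⁻¹) (mul_mem m.2 (inv_mem k.2))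
          (eq_mul_inv_iff_mul_eq.mp h4)
        apply Subtype.ext
        exact (mul_inv_eq_one.mp h5).symm
      obtain ⟨k, hk⟩ := (Finite.injective_iff_surjective.mp hf) ⟨n, hn⟩
      have hk' : (k : G)⁻¹ * (x * k * x⁻¹) = n := congrArg Subtype.val hk
      have hxi : x⁻¹ = x := inv_eq_of_mul_eq_one_left hx
      rw [← hk']
      rw [hxi]
      calc x * ((k : G)⁻¹ * (x * k * x)) * x = x * (k : G)⁻¹ * x * k * (x * x) := by group
        _ = x * (k : G)⁻¹ * x * k := by rw [hx, mul_one]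
        _ = ((k : G)⁻¹ * (x * k * x))⁻¹ := by
          rw [mul_inv_rev, mul_inv_rev, mul_inv_rev, hxi, inv_inv, mul_assoc x]
    rw [eq_bot_iff]
    intro n hn
    rw [mem_bot]
    apply hodd n hn
    have e1' : ((1, v1) : CA) * (1, v1) = 1 := Prod.ext (mul_one 1) v1_sq
    have e2' : ((e1, v1) : CA) * (e1, v1) = 1 := Prod.ext (m2_sq e1) v1_sq
    have i1 := hinv (E.iota zz) E.zz_sq' E.zz_ne' n hn
    have i2 := hinv (E.iota (1, v1)) (by rw [← map_mul, e1', map_one])
      (fun h => v1_ne (congrArg Prod.snd (E.inj (h.trans (map_one E.iota).symm)))) n hn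
    have i3 := hinv (E.iota (e1, v1)) (by rw [← map_mul, e2', map_one])
      (fun h => v1_ne (congrArg Prod.snd (E.inj (h.trans (map_one E.iota).symm)))) n hn
    have h6 : E.iota (e1, v1) = E.iota zz * E.iota (1, v1) := by
      rw [← map_mul]
      congr 1
    have h7 : E.iota (e1, v1) * n * (E.iota (e1, v1))⁻¹ =
        E.iota zz * (E.iota (1, v1) * n * (E.iota (1, v1))⁻¹) * (E.iota zz)⁻¹ := by
      rw [h6]; group
    have h8 : E.iota zz * n⁻¹ * (E.iota zz)⁻¹ = n := by
      have : E.iota zz * n⁻¹ * (E.iota zz)⁻¹ = (E.iota zz * n * (E.iota zz)⁻¹)⁻¹ := by group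
      rw [this, i1, inv_inv]
    rw [i3, i2, h8] at h7
    nth_rewrite 1 [← h7]
    exact inv_mul_cancel n

/-- A subgroup of `A5` whose order is divisible by `15`. -/
theorem a5_fifteen (B : Subgroup A5) (h3 : 3 ∣ Nat.card B) (h5 : 5 ∣ Nat.card B) : B = ⊤ := by
  have h15 : 15 ∣ Nat.card B := by
    have : Nat.Coprime 3 5 := by norm_num
    exact this.mul_dvd_of_dvd_of_dvd h3 h5
  have h60 : Nat.card A5 = 60 := by
    rw [Nat.card_eq_fintype_card]; decide +kernel
  have h1 := B.index_mul_card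
  rw [h60] at h1
  obtain ⟨k, hk⟩ := h15
  have h2 : B.index ∣ 4 := ⟨k, by rw [hk] at h1; nlinarith⟩
  have hcore := B.normalCore_normal
  have h8 : B.normalCore.index ∣ B.index.factorial := by
    rw [normalCore_eq_ker, index_ker, index_eq_card, ← Nat.card_perm]
    exact card_subgroup_dvd_card _
  rcases hcore.eq_bot_or_eq_top with h7 | h7
  · exfalso
    rw [h7, Subgroup.index_bot, h60] at h8
    have h9 : B.index ≤ 4 := Nat.le_of_dvd (by norm_num) h2
    have h10 := h8.trans (Nat.factorial_dvd_factorial h9)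
    exact absurd h10 (by decide)
  · rw [eq_top_iff, ← h7]
    exact normalCore_le _

theorem ca_top (K : Subgroup CA) (hz : zz ∈ K) {p q : CA} (hp : p ∈ K) (hq : q ∈ K)
    (hp3 : p ^ 3 = 1) (hp1 : p ≠ 1) (hq5 : q ^ 5 = 1) (hq1 : q ≠ 1) : K = ⊤ := by
  have : Fact (Nat.Prime 3) := ⟨by norm_num⟩
  have : Fact (Nat.Prime 5) := ⟨by norm_num⟩
  have key : ∀ (r : ℕ) [Fact r.Prime] (x : CA), x ∈ K → x ^ r = 1 → x ≠ 1 → r ≠ 2 →
      r ∣ Nat.card (K.map (MonoidHom.snd M2 A5)) := by
    intro r hr x hx hxr hx1 hr2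
    have h1 : orderOf x.2 = r := by
      apply orderOf_eq_prime (congrArg Prod.snd hxr)
      intro h
      have h2 := ca_sq_fst x h
      rw [← pow_two] at h2
      have h3 := orderOf_dvd_of_pow_eq_one h2
      rw [orderOf_eq_prime hxr hx1, Nat.prime_dvd_prime_iff_eq hr.out Nat.prime_two] at h3
      exact hr2 h3
    have h2 : x.2 ∈ K.map (MonoidHom.snd M2 A5) := ⟨x, hx, rfl⟩
    have h3 : orderOf (⟨x.2, h2⟩ : K.map (MonoidHom.snd M2 A5)) = r := by
      rw [Subgroup.orderOf_mk, h1]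
    rw [← h3]
    exact orderOf_dvd_natCard _
  have h1 := a5_fifteen _ (key 3 p hp hp3 hp1 (by norm_num)) (key 5 q hq hq5 hq1 (by norm_num))
  rw [eq_top_iff]
  intro x _
  have h2 : x.2 ∈ K.map (MonoidHom.snd M2 A5) := by rw [h1]; exact mem_top _
  obtain ⟨y, hy, hy2⟩ := h2
  have hy3 : y.2 = x.2 := hy2
  have h4 : x = y ∨ x = y * zz := by
    rcases fst_cases x.1 with h | h <;> rcases fst_cases y.1 with h' | h'
    · left; exact Prod.ext (h.trans h'.symm) hy3.symm
    · right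
      refine Prod.ext ?_ ?_
      · change x.1 = y.1 * e1
        rw [h, h']; decide
      · change x.2 = y.2 * 1
        rw [mul_one, hy3]
    · right
      refine Prod.ext ?_ ?_
      · change x.1 = y.1 * e1
        rw [h, h']; decide
      · change x.2 = y.2 * 1
        rw [mul_one, hy3]
    · left; exact Prod.ext (h.trans h'.symm) hy3.symm
  rcases h4 with h4 | h4
  · rw [h4]; exact hy
  · rw [h4]; exact mul_mem hy hz

end

section

variable {G : Type*} [Group G] [Finite G] [IsSimpleGroup G]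

theorem pj_top (E : Emb G) (h16 : ¬ 16 ∣ Nat.card G) {a b c d : G} (h : PJ a b c d)
    (hz : (a * b * c) ^ 5 ≠ 1) : closure {a, b, c, d} = ⊤ := by
  set z := (a * b * c) ^ 5 with hzdef
  have hzz : z * z = 1 := h.h3.zz
  have hza : z * a = a * z := h.h3.za
  have aa := h.h3.aa
  have bb := h.h3.bb
  have cc := h.h3.cc
  have dd := h.dd
  have heq : ∀ x y : G, y * y = 1 → x * y = 1 → x = y := by
    intro x y hy hxy
    rw [eq_inv_of_mul_eq_one_left hxy, inv_eq_of_mul_eq_one_left hy]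
  -- non-degeneracy
  have habc : ¬ (a = b ∧ b = c) := by
    rintro ⟨rfl, rfl⟩
    have h1 := h.bcd
    rw [aa, one_mul] at h1
    have h2 : d = 1 := by
      have : d ^ 5 = (d * d) ^ 2 * d := by rw [← pow_two, ← pow_mul, ← pow_succ]
      rw [this, dd, one_pow, one_mul] at h1
      exact h1
    have h3 := h.tt
    rw [h2, mul_one, ← hzdef] at h3
    apply hz
    rw [pow_succ, pow_two, hzz, one_mul] at h3
    exact h3
  have hab : a * b ≠ 1 := by
    intro h1
    have h2 := heq a b bb h1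
    apply habc
    refine ⟨h2, ?_⟩
    have h3 : (b * c) ^ 2 = 1 := by rw [← h2]; exact h.h3.ac
    have h4 := h.h3.bc
    rw [pow_succ, h3, one_mul] at h4
    exact heq b c cc h4
  have hbc : b * c ≠ 1 := by
    intro h1
    have h2 := heq b c cc h1
    apply habc
    refine ⟨?_, h2⟩
    have h3 : (a * b) ^ 2 = 1 := by rw [h2]; exact h.h3.ac
    have h4 := h.h3.ab
    have h5 : (a * b) ^ 5 = ((a * b) ^ 2) ^ 2 * (a * b) := by rw [← pow_mul, ← pow_succ]
    rw [h5, h3, one_pow, one_mul] at h4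
    exact heq a b bb h4
  have haz : a ≠ z := by
    intro h1
    apply hab
    have h2 : a * b = b * a := by
      rw [h1]; exact h.h3.zb
    have h3 := comm_sq aa bb h2
    have h4 := h.h3.ab
    have h5 : (a * b) ^ 5 = ((a * b) ^ 2) ^ 2 * (a * b) := by rw [← pow_mul, ← pow_succ]
    rw [h5, h3, one_pow, one_mul] at h4
    exact h4
  have ha1 : a ≠ 1 := by
    intro h1
    have h2 := h.h3.ab
    rw [h1, one_mul] at h2
    have h3 : b ^ 5 = (b * b) ^ 2 * b := by rw [← pow_two, ← pow_mul, ← pow_succ]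
    rw [h3, bb, one_pow, one_mul] at h2
    apply hab
    rw [h1, h2, mul_one]
  set M := closure {a, b, c, d} with hM
  have haM : a ∈ M := subset_closure (by left; rfl)
  have hbM : b ∈ M := subset_closure (by right; left; rfl)
  have hcM : c ∈ M := subset_closure (by right; right; left; rfl)
  have hdM : d ∈ M := subset_closure (by right; right; right; rfl)
  have hzM : z ∈ M := pow_mem (mul_mem (mul_mem haM hbM) hcM) 5
  obtain ⟨E', hE'⟩ := exists_emb_inv E h16 hzz hz
  obtain ⟨x1, hx1⟩ := E'.cent a (by rw [hE', hza])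
  obtain ⟨x2, hx2⟩ := E'.cent b (by rw [hE']; exact h.h3.zb.symm)
  obtain ⟨x3, hx3⟩ := E'.cent c (by rw [hE']; exact h.h3.zc.symm)
  have htop : M.comap E'.iota = ⊤ := by
    apply ca_top (M.comap E'.iota) (p := x2 * x3) (q := x1 * x2)
    · rw [mem_comap, hE']; exact hzM
    · rw [mem_comap, map_mul, hx2, hx3]; exact mul_mem hbM hcM
    · rw [mem_comap, map_mul, hx1, hx2]; exact mul_mem haM hbM
    · apply E'.inj
      rw [map_pow, map_mul, hx2, hx3, h.h3.bc, map_one]
    · intro h1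
      apply hbc
      rw [← hx2, ← hx3, ← map_mul, h1, map_one]
    · apply E'.inj
      rw [map_pow, map_mul, hx1, hx2, h.h3.ab, map_one]
    · intro h1
      apply hab
      rw [← hx1, ← hx2, ← map_mul, h1, map_one]
  have hall : ∀ y : CA, E'.iota y ∈ M := by
    intro y
    have : y ∈ M.comap E'.iota := by rw [htop]; exact mem_top _
    exact this
  let EM : Emb M :=
    { iota := E'.iota.codRestrict M hall
      inj := by
        intro x y hxy
        exact E'.inj (congrArg Subtype.val hxy)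
      cent := by
        intro g hg
        obtain ⟨y, hy⟩ := E'.cent g (congrArg Subtype.val hg)
        exact ⟨y, Subtype.ext hy⟩ }
  have hEM : ∀ y, ((EM.iota y : M) : G) = E'.iota y := fun y => rfl
  have h16M : ¬ 16 ∣ Nat.card M := fun h1 => h16 (h1.trans (card_subgroup_dvd_card M))
  -- conjugacy in `M`
  have zM : EM.iota zz = ⟨z, hzM⟩ := Subtype.ext hE'
  have c1 : IsConj (⟨a, haM⟩ : M) ⟨b, hbM⟩ :=
    conj_of_odd (k := 2) (Subtype.ext aa) (Subtype.ext bb) (Subtype.ext h.h3.ab)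
  have c2 : IsConj (⟨b, hbM⟩ : M) ⟨c, hcM⟩ :=
    conj_of_odd (k := 1) (Subtype.ext bb) (Subtype.ext cc) (Subtype.ext h.h3.bc)
  have c3 : IsConj (⟨c, hcM⟩ : M) ⟨d, hdM⟩ :=
    conj_of_odd (k := 2) (Subtype.ext cc) (Subtype.ext dd) (Subtype.ext h.cd)
  have c4 : IsConj (⟨z, hzM⟩ : M) ⟨d, hdM⟩ :=
    conj_of_odd (k := 1) (Subtype.ext hzz) (Subtype.ext dd) (Subtype.ext h.tt)
  have c5 : IsConj (⟨z, hzM⟩ : M) ⟨a, haM⟩ := c4.trans (c1.trans (c2.trans c3)).symm
  have hx1' : x1 ≠ 1 := by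
    rintro rfl
    exact ha1 (by rw [← hx1, map_one])
  have hx1z : x1 ≠ zz := by
    rintro rfl
    exact haz (by rw [← hx1, hE'])
  have hx1s : x1 * x1 = 1 := by
    apply E'.inj
    rw [map_mul, hx1, aa, map_one]
  have hex : ∃ y : E8, y ≠ zE ∧ IsConj (EM.iota zz) (EM.iota (kap y)) := by
    obtain ⟨γ, hγ⟩ := a5_inv_conj x1.2 (snd_ne hx1' hx1z) (congrArg Prod.snd hx1s)
    have hc : (1, γ) * kap (x1.1, e1, 1) * (1, γ)⁻¹ = x1 := by
      have h3 : vv e1 1 = v1 := by decide +kernel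
      refine Prod.ext ?_ ?_
      · change 1 * x1.1 * 1⁻¹ = x1.1
        group
      · change γ * vv e1 1 * γ⁻¹ = x1.2
        rw [h3, hγ]
    refine ⟨(x1.1, e1, 1), ?_, ?_⟩
    · intro h1
      exact absurd (congrArg (fun y : E8 => y.2.1) h1) (by change ¬ e1 = 1; decide)
    · rw [zM]
      refine c5.trans ?_
      have h4 : (⟨a, haM⟩ : M) = EM.iota x1 := Subtype.ext (by rw [hEM, hx1])
      rw [h4]
      apply IsConj.symm
      rw [isConj_iff]
      exact ⟨EM.iota (1, γ), by rw [← map_inv, ← map_mul, ← map_mul, hc]⟩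
  have hsimple : IsSimpleGroup M := by
    apply simple_of_gen EM h16M hex (S := ((↑) : M → G) ⁻¹' {a, b, c, d})
    · exact closure_closure_coe_preimage
    · rintro ⟨x, hx⟩ hx'
      apply Subtype.ext
      change x * x = 1
      rcases hx' with h1 | h1 | h1 | h1
      · rw [show x = a from h1]; exact aa
      · rw [show x = b from h1]; exact bb
      · rw [show x = c from h1]; exact cc
      · rw [show x = d from h1]; exact dd
  have hcard : Nat.card M = 175560 := card_eq EM h16M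
  apply Subgroup.eq_top_of_card_eq
  rw [hcard, card_eq E h16]

end

end Cfsg.Agent.JC
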